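import Groth.Agent.AlgGrpQ.PicG.Ideal
import Mathlib.RingTheory.TensorProduct.Basic
import Mathlib.RingTheory.Flat.Basic
import Mathlib.LinearAlgebra.TensorProduct.Tower
import Mathlib.RingTheory.TensorProduct.Maps

/-!
# Ideals in tensor products of algebras
-/

set_option autoImplicit false
set_option linter.style.haveILetI false

universe u

open TensorProduct

namespace Groth.Agent.AlgGrpQ.PicG

variable {k : Type u} [Field k] {A B : Type u} [CommRing A] [CommRing B] [Algebra k A] [Algebra k B]

/-- The tensor product of two ideals. -/
abbrev Ten (k : Type u) [Field k] {A B : Type u} [CommRing A] [CommRing B] [Algebra k A] [Algebra k B]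
    (I : Ideal A) (J : Ideal B) : Type u :=
  (Submodule.restrictScalars k I) ⊗[k] (Submodule.restrictScalars k J)

/-- The tensor product of two ideals inside the tensor product of the algebras. -/
noncomputable def emb (I : Ideal A) (J : Ideal B) : Ten k I J →ₗ[k] A ⊗[k] B :=
  TensorProduct.map (Submodule.restrictScalars k I).subtype (Submodule.restrictScalars k J).subtype

theorem emb_tmul (I : Ideal A) (J : Ideal B) (x : Submodule.restrictScalars k I) (y : Submodule.restrictScalars k J) :
    emb I J (x ⊗ₜ[k] y) = (x : A) ⊗ₜ[k] (y : B) := rfl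

theorem emb_injective (I : Ideal A) (J : Ideal B) : Function.Injective (emb (k := k) I J) := by
  rw [emb, ← LinearMap.rTensor_comp_lTensor]
  exact (Module.Flat.rTensor_preserves_injective_linearMap _ (Submodule.injective_subtype _)).comp
    (Module.Flat.lTensor_preserves_injective_linearMap _ (Submodule.injective_subtype _))

/-- The ideal generated by pairs. -/
noncomputable def box (k : Type u) [Field k] {A B : Type u} [CommRing A] [CommRing B] [Algebra k A] [Algebra k B]
    (I : Ideal A) (J : Ideal B) : Ideal (A ⊗[k] B) :=
  I.map (Algebra.TensorProduct.includeLeft : A →ₐ[k] A ⊗[k] B) *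
    J.map (Algebra.TensorProduct.includeRight : B →ₐ[k] A ⊗[k] B)

theorem emb_mem_box (I : Ideal A) (J : Ideal B) (w : Ten k I J) : emb I J w ∈ box k I J := by
  induction w using TensorProduct.induction_on with
  | zero => simp
  | tmul x y =>
    rw [emb_tmul, show (x : A) ⊗ₜ[k] (y : B) = ((x : A) ⊗ₜ[k] (1 : B)) * ((1 : A) ⊗ₜ[k] (y : B)) by simp]
    exact Ideal.mul_mem_mul (Ideal.mem_map_of_mem _ x.2) (Ideal.mem_map_of_mem _ y.2)
  | add p q hp hq => rw [map_add]; exact Ideal.add_mem _ hp hq

/-- Multiplication by an element of the tensor product. -/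
noncomputable def act (I : Ideal A) (J : Ideal B) : A ⊗[k] B →ₗ[k] Ten k I J →ₗ[k] Ten k I J :=
  TensorProduct.lift
    { toFun := fun p =>
        { toFun := fun q => TensorProduct.map
            (((LinearMap.lsmul A A p).restrictScalars k).restrict fun x hx => I.smul_mem p hx)
            (((LinearMap.lsmul B B q).restrictScalars k).restrict fun x hx => J.smul_mem q hx)
          map_add' := fun q q' => by
            refine TensorProduct.ext' fun x y => ?_
            apply emb_injective I J
            simp [emb_tmul, add_mul, tmul_add]
          map_smul' := fun r q => by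
            refine TensorProduct.ext' fun x y => ?_
            apply emb_injective I J
            simp [emb_tmul] }
      map_add' := fun p p' => by
        refine LinearMap.ext fun q => TensorProduct.ext' fun x y => ?_
        apply emb_injective I J
        simp [emb_tmul, add_mul, add_tmul]
      map_smul' := fun r p => by
        refine LinearMap.ext fun q => TensorProduct.ext' fun x y => ?_
        apply emb_injective I J
        simp [emb_tmul, smul_tmul'] }

theorem emb_act (I : Ideal A) (J : Ideal B) (a : A ⊗[k] B) (w : Ten k I J) :
    emb I J (act I J a w) = a * emb I J w := by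
  induction a using TensorProduct.induction_on with
  | zero => simp
  | add p q hp hq => simp only [map_add, LinearMap.add_apply, add_mul, hp, hq]
  | tmul p q =>
    induction w using TensorProduct.induction_on with
    | zero => simp
    | tmul x y => simp [act, emb_tmul]
    | add x y hx hy => simp only [map_add, mul_add, hx, hy]

theorem exists_emb_eq (I : Ideal A) (J : Ideal B) {z : A ⊗[k] B} (hz : z ∈ box k I J) : ∃ w, emb I J w = z := by
  let N : Ideal (A ⊗[k] B) :=
    { carrier := Set.range (emb (k := k) I J)
      add_mem' := by rintro _ _ ⟨x, rfl⟩ ⟨y, rfl⟩; exact ⟨x + y, map_add _ _ _⟩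
      zero_mem' := ⟨0, map_zero _⟩
      smul_mem' := by rintro a _ ⟨x, rfl⟩; exact ⟨act I J a x, emb_act I J a x⟩ }
  suffices box k I J ≤ N from this hz
  rw [box, Ideal.map, Ideal.map, Ideal.span_mul_span', Ideal.span_le]
  rintro _ ⟨_, ⟨x, hx, rfl⟩, _, ⟨y, hy, rfl⟩, rfl⟩
  exact ⟨(⟨x, hx⟩ : Submodule.restrictScalars k I) ⊗ₜ[k] (⟨y, hy⟩ : Submodule.restrictScalars k J), by simp [emb_tmul]⟩

theorem InvId.box [IsDomain (A ⊗[k] B)] [Nontrivial A] [Nontrivial B] {I : Ideal A} {J : Ideal B} (hI : InvId I)
    (hJ : InvId J) : InvId (box k I J) :=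
  (hI.map _ (Algebra.TensorProduct.includeLeft_injective (algebraMap k B).injective)).mul
    (hJ.map _ (Algebra.TensorProduct.includeRight_injective (algebraMap k A).injective))

end Groth.Agent.AlgGrpQ.PicG
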