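import Mathlib.RingTheory.PicardGroup
import Mathlib.RingTheory.Localization.FractionRing
import Mathlib.RingTheory.Ideal.Maps

/-!
# Invertible integral ideals and their classes
-/

set_option autoImplicit false
set_option linter.style.haveILetI false

universe u

open TensorProduct

namespace Groth.Agent.AlgGrpQ.PicG

variable {A : Type u} [CommRing A]

/-- An invertible integral ideal. -/
def InvId (I : Ideal A) : Prop := ∃ (I' : Ideal A) (c : A), c ≠ 0 ∧ I * I' = Ideal.span {c}

theorem InvId.mul [IsDomain A] {I J : Ideal A} (hI : InvId I) (hJ : InvId J) : InvId (I * J) := by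
  obtain ⟨I', c, hc, h⟩ := hI
  obtain ⟨J', d, hd, h'⟩ := hJ
  exact ⟨I' * J', c * d, mul_ne_zero hc hd, by rw [mul_mul_mul_comm, h, h', Ideal.span_singleton_mul_span_singleton]⟩

theorem invId_span [IsDomain A] {d : A} (hd : d ≠ 0) : InvId (Ideal.span {d}) :=
  ⟨⊤, d, hd, Ideal.mul_top _⟩

theorem invId_top [Nontrivial A] : InvId (⊤ : Ideal A) :=
  ⟨⊤, 1, one_ne_zero, by rw [Ideal.mul_top, Ideal.span_singleton_one]⟩

theorem InvId.pow [IsDomain A] {I : Ideal A} (hI : InvId I) : ∀ n : ℕ, InvId (I ^ n)
  | 0 => by rw [pow_zero, Ideal.one_eq_top]; exact invId_top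
  | n + 1 => by rw [pow_succ]; exact (hI.pow n).mul hI

theorem InvId.map {B : Type u} [CommRing B] {F : Type*} [FunLike F A B] [RingHomClass F A B] (f : F)
    (hf : Function.Injective f) {I : Ideal A} (hI : InvId I) : InvId (I.map f) := by
  obtain ⟨I', c, hc, h⟩ := hI
  exact ⟨I'.map f, f c, fun e => hc (hf (e.trans (map_zero f).symm)), by
    rw [← Ideal.map_mul, h, Ideal.map_span, Set.image_singleton]⟩

theorem InvId.ne_bot {I : Ideal A} (hI : InvId I) : I ≠ ⊥ := by
  obtain ⟨I', c, hc, h⟩ := hI
  rintro rfl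
  rw [Ideal.bot_mul, eq_comm, Ideal.span_singleton_eq_bot] at h
  exact hc h

variable [IsDomain A]

local notation "K" => FractionRing A

/-- The submodule of the fraction field given by an ideal. -/
noncomputable def sub (I : Ideal A) : Submodule A K := Submodule.map (Algebra.ofId A K).toLinearMap I

omit [IsDomain A] in
theorem sub_mul (I J : Ideal A) : sub (I * J) = sub I * sub J := Submodule.map_mul _ _ (Algebra.ofId A K)

omit [IsDomain A] in
theorem sub_span (d : A) : sub (Ideal.span {d}) = Submodule.span A {algebraMap A K d} := by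
  rw [sub, Ideal.span, Submodule.map_span, Set.image_singleton]
  rfl

theorem InvId.isUnit {I : Ideal A} (hI : InvId I) : IsUnit (sub I) := by
  obtain ⟨I', c, hc, h⟩ := hI
  have hc' : algebraMap A K c ≠ 0 := fun e => hc (IsFractionRing.injective A K (e.trans (map_zero _).symm))
  refine IsUnit.of_mul_eq_one (sub I' * Submodule.span A {(algebraMap A K c)⁻¹}) ?_
  rw [← mul_assoc, ← sub_mul, h, sub_span, Submodule.span_mul_span, Set.singleton_mul_singleton, mul_inv_cancel₀ hc',
    Submodule.one_eq_span]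

/-- The class of an invertible ideal. -/
noncomputable def cls (I : Ideal A) (hI : InvId I) : CommRing.Pic A := Submodule.unitsToPic A K hI.isUnit.unit

theorem cls_congr {I J : Ideal A} (e : I = J) (hI : InvId I) (hJ : InvId J) : cls I hI = cls J hJ := by
  subst e; rfl

theorem cls_mul {I J : Ideal A} (hI : InvId I) (hJ : InvId J) :
    cls (I * J) (hI.mul hJ) = cls I hI * cls J hJ := by
  rw [cls, cls, cls, ← map_mul]
  congr 1
  exact Units.ext (sub_mul I J)

/-- The ideal as a module. -/
noncomputable def equivSub (I : Ideal A) : I ≃ₗ[A] sub I :=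
  Submodule.equivMapOfInjective _ (IsFractionRing.injective A K) I

theorem cls_eq_mk {I : Ideal A} (hI : InvId I) : ∃ _ : Module.Invertible A I, cls I hI = CommRing.Pic.mk A I := by
  haveI hs : Module.Invertible A (sub I) := inferInstanceAs (Module.Invertible A (hI.isUnit.unit : Submodule A K))
  haveI : Module.Invertible A I := .congr (equivSub I).symm
  exact ⟨inferInstance, CommRing.Pic.mk_eq_mk_iff.2 ⟨(equivSub I).symm⟩⟩

theorem cls_span {d : A} (hd : d ≠ 0) : cls (Ideal.span {d}) (invId_span hd) = 1 := by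
  obtain ⟨_, e⟩ := cls_eq_mk (invId_span hd)
  rw [e]
  refine CommRing.Pic.mk_eq_one_iff.2 ⟨(LinearEquiv.toSpanNonzeroSingleton A A d hd).symm⟩

theorem cls_top : cls (⊤ : Ideal A) invId_top = 1 :=
  (cls_congr Ideal.span_singleton_one.symm _ (invId_span one_ne_zero)).trans (cls_span one_ne_zero)

theorem cls_pow {I : Ideal A} (hI : InvId I) : ∀ n : ℕ, cls (I ^ n) (hI.pow n) = cls I hI ^ n
  | 0 => by
    refine (cls_congr ?_ _ invId_top).trans (cls_top.trans (pow_zero _).symm)
    rw [pow_zero, Ideal.one_eq_top]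
  | n + 1 => by
    refine ((cls_congr (pow_succ I n) _ ((hI.pow n).mul hI)).trans (cls_mul (hI.pow n) hI)).trans ?_
    rw [cls_pow hI n, ← pow_succ]

/-- An invertible module is an invertible ideal, which may be chosen not to lie in a given maximal kernel. -/
theorem exists_ideal (M : Type u) [AddCommGroup M] [Module A M] [Module.Invertible A M] (m : Ideal A) (hm : m ≠ ⊤) :
    ∃ (I : Ideal A) (hI : InvId I) (_ : M ≃ₗ[A] I), ¬ I ≤ m ∧ cls I hI = CommRing.Pic.mk A M := by
  have hswap : ∀ (f : M →ₗ[A] A) (x y : M), f x • y = f y • x := fun f x y => by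
    simpa using congrArg ((TensorProduct.lid A M).toLinearMap ∘ₗ f.rTensor M)
      (Module.Invertible.tmul_comm (R := A) (m₁ := x) (m₂ := y))
  have htop : ∀ n : Ideal A, (∀ (f : M →ₗ[A] A) x, f x ∈ n) → n = ⊤ := fun n h => by
    have hall : ∀ t : Module.Dual A M ⊗[A] M, Module.Invertible.linearEquiv A M t ∈ n := fun t => by
      induction t using TensorProduct.induction_on with
      | zero => simp
      | tmul f x => simpa [Module.Invertible.linearEquiv] using h f x
      | add a b ha hb => rw [map_add]; exact n.add_mem ha hb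
    exact (Ideal.eq_top_iff_one n).2 (by simpa using hall ((Module.Invertible.linearEquiv A M).symm 1))
  obtain ⟨f, m₀, hf⟩ : ∃ (f : M →ₗ[A] A) (x : M), f x ∉ m := by
    by_contra h
    push Not at h
    exact hm (htop m h)
  have hf0 : f m₀ ≠ 0 := fun e => hf (e ▸ m.zero_mem)
  have hinj : Function.Injective f := (injective_iff_map_eq_zero f).2 fun x hx => by
    have h1 := hswap f m₀ x
    rw [hx, zero_smul] at h1
    haveI : Module.IsTorsionFree A M := inferInstance
    exact (smul_eq_zero.1 h1).resolve_left hf0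
  let I' : Ideal A := LinearMap.range (LinearMap.applyₗ m₀ : (M →ₗ[A] A) →ₗ[A] A)
  have hI : InvId (LinearMap.range f) := by
    refine ⟨I', f m₀, hf0, le_antisymm (Ideal.mul_le.2 ?_) ?_⟩
    · rintro _ ⟨x, rfl⟩ _ ⟨ψ, rfl⟩
      refine Ideal.mem_span_singleton'.2 ⟨ψ x, ?_⟩
      show ψ x * f m₀ = f x * ψ m₀
      have := congrArg f (hswap ψ x m₀)
      rw [map_smul, map_smul, smul_eq_mul, smul_eq_mul] at this
      rw [this, mul_comm]
    · rw [Ideal.span_singleton_le_iff_mem]
      let n : Ideal A := ((LinearMap.range f : Ideal A) * I').comap (LinearMap.mulLeft A (f m₀))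
      have : n = ⊤ := htop n fun ψ x => by
        show f m₀ * ψ x ∈ (LinearMap.range f : Ideal A) * I'
        have := congrArg f (hswap ψ x m₀)
        rw [map_smul, map_smul, smul_eq_mul, smul_eq_mul] at this
        rw [show f m₀ * ψ x = f x * ψ m₀ by rw [mul_comm, this, mul_comm]]
        exact Ideal.mul_mem_mul ⟨x, rfl⟩ ⟨ψ, rfl⟩
      have h1 : (1 : A) ∈ n := this ▸ Submodule.mem_top
      simpa [n] using h1
  obtain ⟨_, hcls⟩ := cls_eq_mk hI
  refine ⟨_, hI, LinearEquiv.ofInjective f hinj, fun hle => hf (hle ⟨m₀, rfl⟩), ?_⟩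
  exact hcls.trans (CommRing.Pic.mk_eq_mk_iff.2 ⟨(LinearEquiv.ofInjective f hinj).symm⟩)

end Groth.Agent.AlgGrpQ.PicG
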