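import Groth.Agent.QCoh.Pullback
import Groth.Agent.S2289
import Groth.Agent.ProjUPX.Affine
import Groth.Agent.H23.PicMul
import Groth.Prelude.Def_PicGrp
import Groth.Agent.AlgGrpQ.PicG.Ideal

/-!
# Invertible modules on an affine scheme and the Picard group of the ring
-/

set_option autoImplicit false
set_option linter.style.haveILetI false
set_option backward.isDefEq.respectTransparency false

universe u

open CategoryTheory CategoryTheory.Limits AlgebraicGeometry TensorProduct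

namespace Groth.Agent.AlgGrpQ.PicG

theorem exists_linearEquiv {R : CommRingCat.{u}} {M N : ModuleCat.{u} R} (h : Nonempty (tilde M ≅ tilde N)) :
    Nonempty (M ≃ₗ[R] N) := by
  obtain ⟨e⟩ := h
  exact ⟨((tilde.functor R).preimageIso e).toLinearEquiv⟩

theorem nonempty_tilde_self (R : CommRingCat.{u}) :
    Nonempty (tilde (ModuleCat.of R R) ≅ Coh.structureModule (Spec R)) := ⟨tildeSelf⟩

/-- An invertible module on an affine scheme comes from an invertible module over the ring. -/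
theorem exists_module {R : CommRingCat.{u}} (L : (Spec R).Modules) (hL : PicF.IsInvertible L) :
    ∃ (M : ModuleCat.{u} R) (_ : Module.Invertible R M), Nonempty (tilde M ≅ L) := by
  obtain ⟨D, hD, ⟨e⟩⟩ := H23.PicInv.exists_inverse hL
  obtain ⟨M, ⟨eM⟩⟩ := QCoh.isQCoh_spec_iff.1 (ProjUPX.isQCoh_of_isInvertible hL)
  obtain ⟨M', ⟨eM'⟩⟩ := QCoh.isQCoh_spec_iff.1 (ProjUPX.isQCoh_of_isInvertible hD)
  obtain ⟨et⟩ := S2289.tilde_tensor R M M'
  obtain ⟨e1⟩ := nonempty_tilde_self R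
  obtain ⟨el⟩ := exists_linearEquiv (N := ModuleCat.of R R)
    ⟨et ≪≫ PicGrp.tensorModIso eM eM' ≪≫ e ≪≫ e1.symm⟩
  exact ⟨M, Module.Invertible.right ((TensorProduct.comm R M' M).trans el), ⟨eM⟩⟩

variable {R S : CommRingCat.{u}}

theorem exists_rep (c : PicLoc.PicSet (Spec R)) :
    ∃ (M : ModuleCat.{u} R) (_ : Module.Invertible R M), c.1 = PicF.cl (tilde M) := by
  obtain ⟨c, L, rfl, hL⟩ := c
  obtain ⟨M, hM, he⟩ := exists_module L hL
  exact ⟨M, hM, ((PicGrp.cl_eq_cl_iff _ _).2 he).symm⟩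

/-- The class in the Picard group of the ring. -/
noncomputable def toPic (c : PicLoc.PicSet (Spec R)) : CommRing.Pic R :=
  haveI := (exists_rep c).choose_spec.choose
  CommRing.Pic.mk R (exists_rep c).choose

theorem toPic_eq (c : PicLoc.PicSet (Spec R)) (M : ModuleCat.{u} R) [Module.Invertible R M]
    (h : c.1 = PicF.cl (tilde M)) : toPic c = CommRing.Pic.mk R M := by
  haveI := (exists_rep c).choose_spec.choose
  exact CommRing.Pic.mk_eq_mk_iff.2 (exists_linearEquiv
    ((PicGrp.cl_eq_cl_iff _ _).1 ((exists_rep c).choose_spec.choose_spec.symm.trans h)))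

theorem toPic_injective : Function.Injective (toPic (R := R)) := by
  intro c d h
  obtain ⟨M, _, hM⟩ := exists_rep c
  obtain ⟨N, _, hN⟩ := exists_rep d
  rw [toPic_eq c M hM, toPic_eq d N hN] at h
  obtain ⟨e⟩ := CommRing.Pic.mk_eq_mk_iff.1 h
  exact Subtype.ext (hM.trans (((PicGrp.cl_eq_cl_iff _ _).2 ⟨(tilde.functor R).mapIso e.toModuleIso⟩).trans hN.symm))

theorem toPic_mul [PicGrp.Law (Spec R)] (c d : PicLoc.PicSet (Spec R)) : toPic (c * d) = toPic c * toPic d := by
  obtain ⟨M, _, hM⟩ := exists_rep c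
  obtain ⟨N, _, hN⟩ := exists_rep d
  rw [toPic_eq c M hM, toPic_eq d N hN, ← CommRing.Pic.mk_tensor]
  refine toPic_eq (c * d) (ModuleCat.of R (M ⊗[R] N)) ?_
  rw [PicGrp.mul_val, hM, hN, PicGrp.mulCl_cl]
  exact ((PicGrp.cl_eq_cl_iff _ _).2 (S2289.tilde_tensor R M N)).symm

/-- The comparison with the Picard group of the ring. -/
noncomputable def toPicHom (R : CommRingCat.{u}) [PicGrp.Law (Spec R)] : PicLoc.PicSet (Spec R) →* CommRing.Pic R :=
  MonoidHom.mk' toPic toPic_mul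

theorem toPic_pull [PicGrp.Law (Spec R)] [PicGrp.Law (Spec S)] (g : R ⟶ S) (h : PicGrp.PullMul (Spec.map g))
    (c : PicLoc.PicSet (Spec R)) :
    toPic (PicGrp.pullHom (Spec.map g) h c) = CommRing.Pic.mapRingHom g.hom (toPic c) := by
  obtain ⟨M, _, hM⟩ := exists_rep c
  rw [toPic_eq c M hM]
  letI := g.hom.toAlgebra
  have e : ((ModuleCat.extendScalars.{_, _, u} g.hom).obj M) ≅ ModuleCat.of S (S ⊗[R] M) := Iso.refl _
  refine Eq.trans (toPic_eq _ (ModuleCat.of S (S ⊗[R] M)) ?_) ?_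
  · rw [PicGrp.pullHom_apply_val, hM, PicLoc.pullCl_cl]
    exact (PicGrp.cl_eq_cl_iff _ _).2 ⟨(QCoh.tildePullbackIso g).app M ≪≫ (tilde.functor S).mapIso e⟩
  · refine CommRing.Pic.mk_eq_mk_iff.2 ⟨?_⟩
    exact TensorProduct.AlgebraTensorModule.congr (.refl S S) (CommRing.Pic.mk.linearEquiv R M).symm

end Groth.Agent.AlgGrpQ.PicG
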