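import Groth.Agent.AlgGrpQ.PicG.Norm

/-!
# Coassociativity of the comultiplication of an invertible ideal
-/

set_option autoImplicit false
set_option linter.style.haveILetI false
set_option maxSynthPendingDepth 5

universe u

open TensorProduct WithConv
open scoped Groth.Agent.DynLib41

namespace Groth.Agent.AlgGrpQ.PicG

/-- An ideal as a vector space. -/
abbrev Sub (k : Type u) [Field k] {A : Type u} [CommRing A] [Algebra k A] (I : Ideal A) : Type u :=
  ↥(Submodule.restrictScalars k I)

variable {k : Type u} [Field k] {A : Type u} [CommRing A] [HopfAlgebra k A] (I : Ideal A)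





/-- The triple tensor product inside the algebra. -/
noncomputable def emb3 : ((Sub k I) ⊗[k] (Ten k I I)) →ₗ[k] A ⊗[k] (A ⊗[k] A) := TensorProduct.map (Submodule.restrictScalars k I).subtype (emb I I)

theorem emb3_tmul (x : (Sub k I)) (w : (Ten k I I)) : emb3 I (x ⊗ₜ[k] w) = (x : A) ⊗ₜ[k] emb I I w := rfl

theorem emb3_injective : Function.Injective (emb3 (k := k) I) := by
  rw [emb3, ← LinearMap.rTensor_comp_lTensor]
  exact (Module.Flat.rTensor_preserves_injective_linearMap _ (Submodule.injective_subtype _)).comp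
    (Module.Flat.lTensor_preserves_injective_linearMap _ (emb_injective I I))

variable (dh : (Sub k I) →ₗ[k] (Ten k I I))

/-- The left iterate. -/
noncomputable def iterL : (Ten k I I) →ₗ[k] (Sub k I) ⊗[k] (Ten k I I) := (TensorProduct.assoc k (Sub k I) (Sub k I) (Sub k I)).toLinearMap ∘ₗ dh.rTensor (Sub k I)

/-- The right iterate. -/
noncomputable def iterR : (Ten k I I) →ₗ[k] (Sub k I) ⊗[k] (Ten k I I) := dh.lTensor (Sub k I)

theorem iterL_tmul (y z : (Sub k I)) : iterL I dh (y ⊗ₜ[k] z) = TensorProduct.assoc k (Sub k I) (Sub k I) (Sub k I) (dh y ⊗ₜ[k] z) := rfl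

theorem iterR_tmul (y z : (Sub k I)) : iterR I dh (y ⊗ₜ[k] z) = y ⊗ₜ[k] dh z := rfl

theorem emb3_assoc (v : (Ten k I I)) (r : (Sub k I)) : emb3 I (TensorProduct.assoc k (Sub k I) (Sub k I) (Sub k I) (v ⊗ₜ[k] r)) =
    Algebra.TensorProduct.assoc k k k A A A (emb I I v ⊗ₜ[k] (r : A)) := by
  induction v using TensorProduct.induction_on with
  | zero => simp
  | tmul y z => rfl
  | add p q hp hq => simp only [map_add, add_tmul, hp, hq]

theorem act_tmul (p q : A) (y z : (Sub k I)) : act I I (p ⊗ₜ[k] q) (y ⊗ₜ[k] z) =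
    (⟨p * y, I.smul_mem p y.2⟩ : (Sub k I)) ⊗ₜ[k] (⟨q * z, I.smul_mem q z.2⟩ : (Sub k I)) :=
  emb_injective I I (by rw [emb_act, emb_tmul, emb_tmul, Algebra.TensorProduct.tmul_mul_tmul])

variable {I dh}

/-- The hypotheses on a lifted comultiplication. -/
structure IsDelta (dh : (Sub k I) →ₗ[k] (Ten k I I)) : Prop where
  mul : ∀ (a : A) (x : (Sub k I)), dh ⟨a * x, I.smul_mem a x.2⟩ = act I I (Coalgebra.comul (R := k) a) (dh x)
  gen : ∀ w : (Ten k I I), ∃ c : (Sub k I) →₀ A ⊗[k] A, w = c.sum fun x a => act I I a (dh x)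
  left : ∀ x : (Sub k I), sL k A (emb I I (dh x)) = x
  right : ∀ x : (Sub k I), sR k A (emb I I (dh x)) = x

theorem exists_isDelta [IsDomain A] (hI : InvId I) (δ : I → A ⊗[k] A)
    (hδ : ∀ (a : A) (x : I), δ (a • x) = Coalgebra.comul (R := k) a * δ x)
    (hspan : Ideal.span (Set.range δ) = box k I I) (hL : ∀ x, sL k A (δ x) = x) (hR : ∀ x, sR k A (δ x) = x)
    [IsDomain (A ⊗[k] A)] :
    ∃ dh : (Sub k I) →ₗ[k] (Ten k I I), IsDelta dh := by
  classical
  have hadd : ∀ x y : I, δ (x + y) = δ x + δ y := by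
    obtain ⟨x₀, hx₀, hx0⟩ := (Submodule.ne_bot_iff _).1 hI.ne_bot
    have hc : ∀ x : I, Coalgebra.comul (R := k) x₀ * δ x = Coalgebra.comul (R := k) (x : A) * δ ⟨x₀, hx₀⟩ := fun x => by
      rw [← hδ, ← hδ]; congr 1; exact Subtype.ext (mul_comm x₀ (x : A))
    intro x y
    refine mul_left_cancel₀ (fun h => hx0 (comul_injective' (k := k) (h.trans (map_zero _).symm))) ?_
    rw [mul_add, hc, hc, hc, Submodule.coe_add, map_add, add_mul]
  choose δh hδh using fun x : I => exists_emb_eq (k := k) I I (z := δ x) (hspan ▸ Ideal.subset_span ⟨x, rfl⟩)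
  let dh : (Sub k I) →ₗ[k] (Ten k I I) :=
    { toFun := fun x => δh ⟨x, x.2⟩
      map_add' := fun x y => emb_injective I I (by
        rw [map_add, hδh, hδh, hδh, ← hadd]; rfl)
      map_smul' := fun r x => emb_injective I I (by
        rw [RingHom.id_apply, map_smul, hδh, hδh, Algebra.smul_def]
        have e := hδ (algebraMap k A r) ⟨x, x.2⟩
        rw [Bialgebra.comul_algebraMap] at e
        refine Eq.trans ?_ e
        congr 1
        exact Subtype.ext (Algebra.smul_def r (x : A))) }
  have hdh : ∀ x : (Sub k I), emb I I (dh x) = δ ⟨x, x.2⟩ := fun x => hδh _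
  refine ⟨dh, fun a x => emb_injective I I (by rw [hdh, emb_act, hdh]; exact hδ a ⟨x, x.2⟩), fun w => ?_,
    fun x => by rw [hdh]; exact hL _, fun x => by rw [hdh]; exact hR _⟩
  have hw : emb I I w ∈ Ideal.span (Set.range fun x : (Sub k I) => emb I I (dh x)) := by
    have : (Set.range fun x : (Sub k I) => emb I I (dh x)) = Set.range δ := by
      ext z
      exact ⟨fun ⟨x, hx⟩ => ⟨⟨x, x.2⟩, (hdh x).symm.trans hx⟩, fun ⟨x, hx⟩ => ⟨⟨x, x.2⟩, (hdh _).trans hx⟩⟩
    rw [this, hspan]
    exact emb_mem_box I I w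
  obtain ⟨c, hc⟩ := Finsupp.mem_ideal_span_range_iff_exists_finsupp.1 hw
  refine ⟨c, emb_injective I I ?_⟩
  rw [map_finsuppSum, ← hc]
  exact Finsupp.sum_congr fun x _ => (emb_act I I _ _).symm

variable (k A) in
/-- The double comultiplication on the left factor. -/
noncomputable abbrev phiL : A ⊗[k] A →ₐ[k] A ⊗[k] (A ⊗[k] A) :=
  (Algebra.TensorProduct.assoc k k k A A A).toAlgHom.comp
    (Algebra.TensorProduct.map (Bialgebra.comulAlgHom k A) (AlgHom.id k A))

variable (k A) in
/-- The double comultiplication on the right factor. -/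
noncomputable abbrev phiR : A ⊗[k] A →ₐ[k] A ⊗[k] (A ⊗[k] A) :=
  Algebra.TensorProduct.map (AlgHom.id k A) (Bialgebra.comulAlgHom k A)

variable (hd : IsDelta dh)

include hd in
theorem iterL_act (a : A ⊗[k] A) (w : (Ten k I I)) : emb3 I (iterL I dh (act I I a w)) = phiL k A a * emb3 I (iterL I dh w) := by
  induction a using TensorProduct.induction_on with
  | zero => simp
  | add p q hp hq => simp only [map_add, LinearMap.add_apply, add_mul, hp, hq]
  | tmul p q =>
    induction w using TensorProduct.induction_on with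
    | zero => simp
    | add p q hp hq => simp only [map_add, mul_add, hp, hq]
    | tmul y z =>
      rw [act_tmul, iterL_tmul, iterL_tmul, emb3_assoc, emb3_assoc, hd.mul, emb_act]
      show _ = Algebra.TensorProduct.assoc k k k A A A (Coalgebra.comul (R := k) p ⊗ₜ[k] q) * _
      rw [← map_mul, Algebra.TensorProduct.tmul_mul_tmul]

include hd in
theorem iterR_act (a : A ⊗[k] A) (w : (Ten k I I)) : emb3 I (iterR I dh (act I I a w)) = phiR k A a * emb3 I (iterR I dh w) := by
  induction a using TensorProduct.induction_on with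
  | zero => simp
  | add p q hp hq => simp only [map_add, LinearMap.add_apply, add_mul, hp, hq]
  | tmul p q =>
    induction w using TensorProduct.induction_on with
    | zero => simp
    | add p q hp hq => simp only [map_add, mul_add, hp, hq]
    | tmul y z =>
      rw [act_tmul, iterR_tmul, iterR_tmul, emb3_tmul, emb3_tmul, hd.mul, emb_act]
      show _ = (p ⊗ₜ[k] Coalgebra.comul (R := k) q) * _
      rw [Algebra.TensorProduct.tmul_mul_tmul]

theorem emb3_mem (z : (Sub k I) ⊗[k] (Ten k I I)) : emb3 I z ∈ box k I (box k I I) := by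
  induction z using TensorProduct.induction_on with
  | zero => simp
  | tmul x w =>
    rw [emb3_tmul, show (x : A) ⊗ₜ[k] emb I I w = ((x : A) ⊗ₜ[k] (1 : A ⊗[k] A)) * ((1 : A) ⊗ₜ[k] emb I I w) by simp]
    exact Ideal.mul_mem_mul (Ideal.mem_map_of_mem _ x.2) (Ideal.mem_map_of_mem _ (emb_mem_box I I w))
  | add p q hp hq => rw [map_add]; exact Ideal.add_mem _ hp hq

theorem le_of_pure {S : Ideal (A ⊗[k] (A ⊗[k] A))}
    (h : ∀ (x : (Sub k I)) (w : (Ten k I I)), (x : A) ⊗ₜ[k] emb I I w ∈ S) : box k I (box k I I) ≤ S := by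
  intro v hv
  obtain ⟨w, rfl⟩ := exists_emb_eq (k := k) I (box k I I) hv
  induction w using TensorProduct.induction_on with
  | zero => simp
  | add p q hp hq => rw [map_add]; exact Ideal.add_mem _ (hp (emb_mem_box _ _ _)) (hq (emb_mem_box _ _ _))
  | tmul x y =>
    obtain ⟨w', hw'⟩ := exists_emb_eq (k := k) I I y.2
    rw [emb_tmul, ← hw']
    exact h ⟨x, x.2⟩ w'

include hd in
theorem span_iter {D : (Ten k I I) →ₗ[k] (Sub k I) ⊗[k] (Ten k I I)} {Φ : A ⊗[k] A →ₐ[k] A ⊗[k] (A ⊗[k] A)}
    (hD : ∀ a w, emb3 I (D (act I I a w)) = Φ a * emb3 I (D w))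
    (hle : box k I (box k I I) ≤ Ideal.span (Set.range fun w => emb3 I (D w))) :
    Ideal.span (Set.range fun x : I => emb3 I (D (dh ⟨x, x.2⟩))) = box k I (box k I I) := by
  refine le_antisymm (Ideal.span_le.2 (by rintro _ ⟨x, rfl⟩; exact emb3_mem _)) (hle.trans (Ideal.span_le.2 ?_))
  rintro _ ⟨w, rfl⟩
  obtain ⟨c, rfl⟩ := hd.gen w
  simp only [map_finsuppSum, hD]
  exact Submodule.finsuppSum_mem _ _ _ _ fun x _ => Ideal.mul_mem_left _ _ (Ideal.subset_span ⟨⟨x, x.2⟩, rfl⟩)

include hd in
theorem le_iterL : box k I (box k I I) ≤ Ideal.span (Set.range fun w => emb3 I (iterL I dh w)) := by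
  refine le_of_pure fun x w => ?_
  have hpure : ∀ (w : (Ten k I I)) (z : (Sub k I)), Algebra.TensorProduct.assoc k k k A A A (emb I I w ⊗ₜ[k] (z : A)) ∈
      Ideal.span (Set.range fun w => emb3 I (iterL I dh w)) := by
    intro w z
    obtain ⟨c, rfl⟩ := hd.gen w
    simp only [Finsupp.sum, map_sum, sum_tmul]
    refine Ideal.sum_mem _ fun y _ => ?_
    rw [emb_act, show (c y * emb I I (dh y)) ⊗ₜ[k] (z : A) = (c y ⊗ₜ[k] (1 : A)) * (emb I I (dh y) ⊗ₜ[k] (z : A)) by simp,
      map_mul]
    refine Ideal.mul_mem_left _ _ (Ideal.subset_span ⟨y ⊗ₜ[k] z, ?_⟩)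
    show emb3 I (iterL I dh (y ⊗ₜ[k] z)) = _
    rw [iterL_tmul, emb3_assoc]
  induction w using TensorProduct.induction_on with
  | zero => simp
  | add p q hp hq => rw [map_add, tmul_add]; exact Ideal.add_mem _ hp hq
  | tmul y z => exact hpure (x ⊗ₜ[k] y) z

include hd in
theorem le_iterR : box k I (box k I I) ≤ Ideal.span (Set.range fun w => emb3 I (iterR I dh w)) := by
  refine le_of_pure fun x w => ?_
  obtain ⟨c, rfl⟩ := hd.gen w
  simp only [Finsupp.sum, map_sum, tmul_sum]
  refine Ideal.sum_mem _ fun z _ => ?_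
  rw [emb_act, show (x : A) ⊗ₜ[k] (c z * emb I I (dh z)) =
    ((1 : A) ⊗ₜ[k] c z) * ((x : A) ⊗ₜ[k] emb I I (dh z)) by simp]
  refine Ideal.mul_mem_left _ _ (Ideal.subset_span ⟨x ⊗ₜ[k] z, ?_⟩)
  show emb3 I (iterR I dh (x ⊗ₜ[k] z)) = _
  rw [iterR_tmul, emb3_tmul]

variable [IsAlgClosed k] [Algebra.FiniteType k A] [IsDomain A]

/-- The counit in two slots. -/
noncomputable abbrev ee (k : Type u) [Field k] (A : Type u) [CommRing A] [HopfAlgebra k A] : A ⊗[k] A →ₐ[k] k :=
  Algebra.TensorProduct.lift (Bialgebra.counitAlgHom k A) (Bialgebra.counitAlgHom k A) fun _ _ => Commute.all _ _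

include hd in
/-- Coassociativity. -/
theorem coassoc (hI : InvId I) (hε : ∃ c ∈ I, Coalgebra.counit (R := k) c = (1 : k)) (x : (Sub k I)) :
    iterL I dh (dh x) = iterR I dh (dh x) := by
  haveI : IsDomain (A ⊗[k] A) := GrpSchLib.isDomain_tensor_of_isAlgClosed
  haveI : IsDomain (A ⊗[k] (A ⊗[k] A)) := GrpSchLib.isDomain_tensor_of_isAlgClosed
  haveI : Algebra.FiniteType k (A ⊗[k] A) := Algebra.FiniteType.trans (S := A) ‹_› inferInstance
  let φ : A →ₐ[k] A ⊗[k] (A ⊗[k] A) := (phiR k A).comp (Bialgebra.comulAlgHom k A)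
  have hφl : ∀ a, phiL k A (Coalgebra.comul (R := k) a) = φ a := fun a => by
    show _ = TensorProduct.map LinearMap.id (Coalgebra.comul (R := k)) (Coalgebra.comul (R := k) a)
    exact Coalgebra.coassoc_apply a
  have hφinj : Function.Injective φ := fun a b h => by
    apply comul_injective' (k := k)
    have h' := congrArg (Algebra.TensorProduct.map (AlgHom.id k A) (sL k A)) h
    have hid : ∀ z, Algebra.TensorProduct.map (AlgHom.id k A) (sL k A) (phiR k A z) = z := fun z => by
      induction z using TensorProduct.induction_on with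
      | zero => simp
      | tmul p q =>
        rw [Algebra.TensorProduct.map_tmul, Algebra.TensorProduct.map_tmul]
        exact congrArg (p ⊗ₜ[k] ·) (sL_comul q)
      | add p q hp hq => simp only [map_add, hp, hq]
    exact (hid _).symm.trans (h'.trans (hid _))
  obtain ⟨uu, huu⟩ := exists_unit_ratio hI.ne_bot (φ : A →+* A ⊗[k] (A ⊗[k] A)) hφinj (hI.box (hI.box hI))
    (fun x : I => emb3 I (iterL I dh (dh ⟨x, x.2⟩))) (fun x : I => emb3 I (iterR I dh (dh ⟨x, x.2⟩)))
    (fun a x => by
      show emb3 I (iterL I dh (dh ⟨a * x, _⟩)) = _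
      rw [hd.mul a ⟨x, x.2⟩, iterL_act hd, hφl]; rfl)
    (fun a x => by
      show emb3 I (iterR I dh (dh ⟨a * x, _⟩)) = _
      rw [hd.mul a ⟨x, x.2⟩, iterR_act hd]; rfl)
    (span_iter hd (iterL_act hd) (le_iterL hd)) (span_iter hd (iterR_act hd) (le_iterR hd))
  suffices hu1 : (uu : A ⊗[k] (A ⊗[k] A)) = 1 by
    refine emb3_injective I ?_
    have := huu ⟨x, x.2⟩
    rw [hu1, one_mul] at this
    exact this.symm
  obtain ⟨c₀, hc₀, hc1⟩ := hε
  let ε := Bialgebra.counitAlgHom k A
  let f1 : A ⊗[k] (A ⊗[k] A) →ₐ[k] A ⊗[k] A :=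
    Algebra.TensorProduct.lift ((Algebra.ofId k _).comp ε) (AlgHom.id k _) fun _ _ => Commute.all _ _
  let f23 : A ⊗[k] (A ⊗[k] A) →ₐ[k] A :=
    Algebra.TensorProduct.lift (AlgHom.id k A) ((Algebra.ofId k A).comp (ee k A)) fun _ _ => Commute.all _ _
  have hf1 : ∀ (p : A) (z : A ⊗[k] A), f1 (p ⊗ₜ[k] z) = Coalgebra.counit (R := k) p • z := fun p z => by
    show algebraMap k _ (ε p) * z = _
    rw [← Algebra.smul_def]
    rfl
  have hf23 : ∀ (p : A) (z : A ⊗[k] A), f23 (p ⊗ₜ[k] z) = ee k A z • p := fun p z => by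
    show p * algebraMap k _ (ee k A z) = _
    rw [Algebra.smul_def, mul_comm]
  have hee : ∀ z, ee k A z = Coalgebra.counit (R := k) (sR k A z) := fun z => by
    induction z using TensorProduct.induction_on with
    | zero => simp
    | tmul p q => simp
    | add p q hp hq => simp only [map_add, hp, hq]
  have hassoc1 : ∀ (v : A ⊗[k] A) (r : A), f1 (Algebra.TensorProduct.assoc k k k A A A (v ⊗ₜ[k] r)) = sR k A v ⊗ₜ[k] r := by
    intro v r
    induction v using TensorProduct.induction_on with
    | zero => simp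
    | tmul p q =>
      rw [Algebra.TensorProduct.assoc_tmul, hf1, Algebra.TensorProduct.lift_tmul]
      show _ = (algebraMap k A _ * q) ⊗ₜ[k] r
      rw [← Algebra.smul_def, smul_tmul']
      rfl
    | add p q hp hq => simp only [map_add, add_tmul, hp, hq]
  have hassoc23 : ∀ (v : A ⊗[k] A) (r : A),
      f23 (Algebra.TensorProduct.assoc k k k A A A (v ⊗ₜ[k] r)) = Coalgebra.counit (R := k) r • sL k A v := by
    intro v r
    induction v using TensorProduct.induction_on with
    | zero => simp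
    | tmul p q =>
      rw [Algebra.TensorProduct.assoc_tmul, hf23, Algebra.TensorProduct.lift_tmul, Algebra.TensorProduct.lift_tmul]
      show (Coalgebra.counit (R := k) q * Coalgebra.counit (R := k) r) • p = _ • (p * algebraMap k A (Coalgebra.counit (R := k) q))
      rw [← smul_smul, Algebra.smul_def, Algebra.smul_def, Algebra.smul_def]
      ring
    | add p q hp hq => simp only [map_add, add_tmul, smul_add, hp, hq]
  let L : (Ten k I I) →ₗ[k] (Sub k I) := (TensorProduct.lid k (Sub k I)).toLinearMap ∘ₗ ((ε.toLinearMap ∘ₗ (Submodule.restrictScalars k I).subtype).rTensor (Sub k I))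
  have hL : ∀ w : (Ten k I I), (L w : A) = sR k A (emb I I w) := fun w => by
    induction w using TensorProduct.induction_on with
    | zero => simp
    | tmul p q =>
      rw [emb_tmul, Algebra.TensorProduct.lift_tmul]
      show ((ε (p : A)) • q : (Sub k I)).1 = algebraMap k A (ε (p : A)) * q
      rw [← Algebra.smul_def]
      rfl
    | add p q hp hq => simp only [map_add, Submodule.coe_add, hp, hq]
  have hf1r : ∀ w : (Ten k I I), f1 (emb3 I (iterR I dh w)) = emb I I (dh (L w)) := fun w => by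
    induction w using TensorProduct.induction_on with
    | zero => simp
    | tmul p q =>
      rw [iterR_tmul, emb3_tmul, hf1, ← map_smul, ← map_smul]
      rfl
    | add p q hp hq => simp only [map_add, hp, hq]
  have hf1l : ∀ w : (Ten k I I), f1 (emb3 I (iterL I dh w)) = emb I I w := fun w => by
    induction w using TensorProduct.induction_on with
    | zero => simp
    | tmul y z => rw [iterL_tmul, emb3_assoc, hassoc1, hd.right, emb_tmul]
    | add p q hp hq => simp only [map_add, hp, hq]
  have hf23l : ∀ w : (Ten k I I), f23 (emb3 I (iterL I dh w)) = sL k A (emb I I w) := fun w => by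
    induction w using TensorProduct.induction_on with
    | zero => simp
    | tmul y z =>
      rw [iterL_tmul, emb3_assoc, hassoc23, hd.left, emb_tmul, Algebra.TensorProduct.lift_tmul]
      show _ = (y : A) * algebraMap k A (Coalgebra.counit (R := k) (z : A))
      rw [Algebra.smul_def, mul_comm]
    | add p q hp hq => simp only [map_add, hp, hq]
  have hf23r : ∀ w : (Ten k I I), f23 (emb3 I (iterR I dh w)) = sL k A (emb I I w) := fun w => by
    induction w using TensorProduct.induction_on with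
    | zero => simp
    | tmul y z =>
      rw [iterR_tmul, emb3_tmul, hf23, hee, hd.right, emb_tmul, Algebra.TensorProduct.lift_tmul]
      show _ = (y : A) * algebraMap k A (Coalgebra.counit (R := k) (z : A))
      rw [Algebra.smul_def, mul_comm]
    | add p q hp hq => simp only [map_add, hp, hq]
  have hc00 : c₀ ≠ 0 := fun h => by
    rw [h, map_zero] at hc1
    exact zero_ne_one hc1
  have hu23 : f23 (uu : A ⊗[k] (A ⊗[k] A)) = 1 := by
    have h := congrArg f23 (huu ⟨c₀, hc₀⟩)
    rw [map_mul, hf23r, hf23l, hd.left] at h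
    exact mul_right_cancel₀ hc00 (h.symm.trans (one_mul _).symm)
  have hu1' : f1 (uu : A ⊗[k] (A ⊗[k] A)) = 1 := by
    have h := congrArg f1 (huu ⟨c₀, hc₀⟩)
    rw [map_mul, hf1r, hf1l, show L (dh ⟨c₀, hc₀⟩) = ⟨c₀, hc₀⟩ from Subtype.ext ((hL _).trans (hd.right _))] at h
    refine mul_right_cancel₀ (fun h0 => hc00 ?_) (h.symm.trans (one_mul _).symm)
    have := hd.left ⟨c₀, hc₀⟩
    rw [h0, map_zero] at this
    exact this.symm
  refine eq_one_of_axes (k := k) (uu : A ⊗[k] (A ⊗[k] A)) uu.isUnit ε (ee k A) ?_ fun q => ?_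
  · refine Eq.trans ?_ hu23
    clear hu23 hu1'
    induction (uu : A ⊗[k] (A ⊗[k] A)) using TensorProduct.induction_on with
    | zero => simp
    | tmul p z => rw [hf23]; exact ComodLib.slice_tmul _ _ _
    | add p q hp hq => simp only [map_add, hp, hq]
  · refine Eq.trans ?_ ((congrArg q hu1').trans (map_one q))
    clear hu23 hu1'
    induction (uu : A ⊗[k] (A ⊗[k] A)) using TensorProduct.induction_on with
    | zero => simp
    | tmul p z =>
      rw [hf1, ComodLib.slice_tmul, map_smul, map_smul, smul_eq_mul, smul_eq_mul]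
      exact mul_comm _ _
    | add p q hp hq => simp only [map_add, hp, hq]

end Groth.Agent.AlgGrpQ.PicG
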