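import Groth.Agent.AlgGrpQ.PicG.Coassoc
import Groth.Agent.ComodLib.Orbits
import Mathlib.LinearAlgebra.Matrix.Determinant.Basic
import Mathlib.RingTheory.Ideal.Colon

/-!
# An invertible ideal with a semilinear comultiplication is torsion
-/

set_option autoImplicit false
set_option linter.style.haveILetI false
set_option maxSynthPendingDepth 5

universe u

open TensorProduct WithConv
open scoped Groth.Agent.DynLib41

namespace Groth.Agent.AlgGrpQ.PicG

variable {k : Type u} [Field k] [IsAlgClosed k] {A : Type u} [CommRing A] [HopfAlgebra k A] [Algebra.FiniteType k A]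
  [IsDomain A]

/-- An invertible ideal with a semilinear comultiplication is torsion. -/
theorem exists_pow_principal {I : Ideal A} (hI : InvId I) (hε : ∃ c ∈ I, Coalgebra.counit (R := k) c = (1 : k))
    (δ₀ : I → A ⊗[k] A) (hδ₀ : ∀ (a : A) (x : I), δ₀ (a • x) = Coalgebra.comul (R := k) a * δ₀ x)
    (hspan₀ : Ideal.span (Set.range δ₀) = box k I I) :
    ∃ (n : ℕ) (d : A), 0 < n ∧ d ≠ 0 ∧ I ^ n = Ideal.span {d} := by
  classical
  obtain ⟨δ, hδ, hspan, hL, hR⟩ := exists_normalised hI hε δ₀ hδ₀ hspan₀
  haveI : IsDomain (A ⊗[k] A) := GrpSchLib.isDomain_tensor_of_isAlgClosed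
  obtain ⟨dh, hd⟩ := exists_isDelta hI δ hδ hspan hL hR
  -- a finite subcomodule
  obtain ⟨c₀, hc₀, hc1⟩ := id hε
  let b := Module.Free.chooseBasis k (Sub k I)
  let coords := TensorProduct.equivFinsuppOfBasisRight b (dh ⟨c₀, hc₀⟩)
  let V : Submodule k (Sub k I) := Submodule.span k (coords.support.image coords : Set (Sub k I))
  haveI : Module.Finite k V := Module.Finite.span_of_finite k (Finset.finite_toSet _)
  have hsum : dh ⟨c₀, hc₀⟩ = ∑ i ∈ coords.support, coords i ⊗ₜ[k] b i := by
    conv_lhs => rw [← (TensorProduct.equivFinsuppOfBasisRight b).symm_apply_apply (dh ⟨c₀, hc₀⟩)]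
    rw [TensorProduct.equivFinsuppOfBasisRight_symm_apply]
    rfl
  have hVmem : ∀ i, coords i ∈ V := fun i => by
    by_cases h : i ∈ coords.support
    · exact Submodule.subset_span (Finset.mem_image_of_mem _ h)
    · rw [Finsupp.notMem_support_iff.1 h]; exact V.zero_mem
  have hrange : ∀ x ∈ V, dh x ∈ LinearMap.range (V.subtype.rTensor (Sub k I)) := by
    intro x hx
    induction hx using Submodule.span_induction with
    | zero => simp
    | add p q _ _ hp hq => rw [map_add]; exact Submodule.add_mem _ hp hq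
    | smul r p _ hp => rw [map_smul]; exact Submodule.smul_mem _ r hp
    | mem x hx =>
      obtain ⟨i, hi, rfl⟩ := Finset.mem_image.1 hx
      let P : (Sub k I) ⊗[k] (Ten k I I) →ₗ[k] (Ten k I I) := ((TensorProduct.rid k (Sub k I)).toLinearMap ∘ₗ (b.coord i).lTensor (Sub k I)).lTensor (Sub k I)
      have hl : P (iterL I dh (dh ⟨c₀, hc₀⟩)) = dh (coords i) := by
        rw [hsum, map_sum, map_sum, Finset.sum_eq_single i]
        · show P (TensorProduct.assoc k (Sub k I) (Sub k I) (Sub k I) (dh (coords i) ⊗ₜ[k] b i)) = _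
          induction dh (coords i) using TensorProduct.induction_on with
          | zero => simp
          | tmul p q => simp [P]
          | add p q hp hq => simp only [map_add, add_tmul, hp, hq]
        · intro j _ hji
          show P (TensorProduct.assoc k (Sub k I) (Sub k I) (Sub k I) (dh (coords j) ⊗ₜ[k] b j)) = _
          induction dh (coords j) using TensorProduct.induction_on with
          | zero => simp
          | tmul p q => simp [P, Finsupp.single_eq_of_ne hji.symm]
          | add p q hp hq => simp only [map_add, add_tmul, hp, hq, add_zero]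
        · exact fun h => absurd hi h
      rw [← hl, coassoc hd hI hε, hsum, map_sum, map_sum]
      refine Submodule.sum_mem _ fun j _ => ?_
      show P (coords j ⊗ₜ[k] dh (b j)) ∈ _
      exact ⟨⟨coords j, hVmem j⟩ ⊗ₜ[k] _, rfl⟩
  let e := Module.finBasis k V
  set d := Module.finrank k V
  choose w hw using fun j => hrange _ (e j).2
  let m : Fin d → Fin d → (Sub k I) := fun i j => TensorProduct.equivFinsuppOfBasisLeft e (w j) i
  have hm : ∀ j, dh (e j) = ∑ i, (e i : (Sub k I)) ⊗ₜ[k] m i j := fun j => by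
    rw [← hw]
    conv_lhs => rw [← (TensorProduct.equivFinsuppOfBasisLeft e).symm_apply_apply (w j),
      TensorProduct.equivFinsuppOfBasisLeft_symm_apply, Finsupp.sum_fintype _ _ (fun i => tmul_zero _ _)]
    simp [m]
  have hcomul : ∀ l j, dh (m l j) = ∑ i, m l i ⊗ₜ[k] m i j := by
    intro l j
    have h := coassoc hd hI hε (e j)
    rw [hm] at h
    simp only [map_sum] at h
    have h2 : ∀ i, iterL I dh ((e i : (Sub k I)) ⊗ₜ[k] m i j) = ∑ r, (e r : (Sub k I)) ⊗ₜ[k] (m r i ⊗ₜ[k] m i j) := fun i => by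
      show TensorProduct.assoc k (Sub k I) (Sub k I) (Sub k I) (dh _ ⊗ₜ[k] _) = _
      rw [hm, sum_tmul, map_sum]
      rfl
    simp only [h2] at h
    rw [Finset.sum_comm] at h
    simp only [← tmul_sum] at h
    have h3 : (∑ r, e r ⊗ₜ[k] ∑ i, m r i ⊗ₜ[k] m i j : V ⊗[k] (Ten k I I)) = ∑ r, e r ⊗ₜ[k] dh (m r j) := by
      apply Module.Flat.rTensor_preserves_injective_linearMap (R := k) (M := (Ten k I I)) V.subtype V.injective_subtype
      simp only [map_sum]
      exact h
    have h4 := congrArg (fun z => TensorProduct.equivFinsuppOfBasisLeft e z l) h3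
    simp only [map_sum, TensorProduct.equivFinsuppOfBasisLeft_apply_tmul, Finsupp.coe_finset_sum, Finset.sum_apply,
      Finsupp.mapRange_apply, Module.Basis.repr_self, Finsupp.single_apply, ite_smul, one_smul, zero_smul,
      Finset.sum_ite_eq', Finset.mem_univ, if_true] at h4
    exact h4.symm
  have hcounit : ∀ i j, Coalgebra.counit (R := k) (m i j : A) = if i = j then (1 : k) else 0 := by
    intro i j
    have h := congrArg (fun z => sL k A (emb I I z)) (hm j)
    simp only [hd.left] at h
    have h' : (e j : V) = ∑ r, Coalgebra.counit (R := k) (m r j : A) • e r := by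
      apply Subtype.ext
      apply Subtype.ext
      refine h.trans ?_
      rw [map_sum, map_sum, Submodule.coe_sum, Submodule.coe_sum]
      refine Finset.sum_congr rfl fun r _ => ?_
      rw [emb_tmul, Algebra.TensorProduct.lift_tmul]
      show (e r : Sub k I).1 * algebraMap k A (Coalgebra.counit (R := k) (m r j : A)) = _
      rw [Submodule.coe_smul, Submodule.coe_smul, Algebra.smul_def, mul_comm]
    have h'' := congrArg (fun z => e.repr z i) h'
    simpa [Finsupp.single_apply, eq_comm] using h''.symm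
  have hd0 : 0 < d := by
    refine Nat.pos_of_ne_zero fun h0 => ?_
    have hV : V = ⊥ := Submodule.finrank_eq_zero.1 h0
    have : dh ⟨c₀, hc₀⟩ = 0 := by
      rw [hsum]
      refine Finset.sum_eq_zero fun i _ => ?_
      rw [show coords i = 0 from (Submodule.mem_bot k).1 (hV ▸ hVmem i), zero_tmul]
    have h := congrArg (fun z => sL k A (emb I I z)) this
    simp only [hd.left, map_zero] at h
    rw [show c₀ = 0 from h, map_zero] at hc1
    exact zero_ne_one hc1
  -- the determinant generates
  obtain ⟨I', c, hc, hII⟩ := id hI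
  let mat : Matrix (Fin d) (Fin d) A := Matrix.of fun i j => (m i j : A)
  have hdet : mat.det ∈ I ^ d := by
    rw [Matrix.det_apply]
    refine Ideal.sum_mem _ fun σ _ => Submodule.smul_of_tower_mem _ _ ?_
    have := Ideal.prod_mem_prod (s := (Finset.univ : Finset (Fin d))) (I := fun _ => I) (x := fun i => mat (σ i) i)
      fun i _ => (m (σ i) i).2
    simpa using this
  let 𝔞 : Ideal A := (Ideal.span {mat.det}).colon (I ^ d : Ideal A)
  have htop : 𝔞 = ⊤ := by
    by_contra hne
    obtain ⟨M, hM, hle⟩ := Ideal.exists_le_maximal _ hne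
    obtain ⟨g, hg⟩ := ComodLib.exists_point (k := k) M hM.ne_top
    let h : A →ₐ[k] k := ((toConv g)⁻¹).ofConv
    have hpsi : ∀ p : A →ₐ[k] k, ∃ (t : A) (_ : t ∈ I') (ψ : (Sub k I) →ₗ[k] A),
        (∀ x, c * ψ x = t * x) ∧ ∃ y, p (ψ y) ≠ 0 := by
      intro p
      by_contra hall
      push Not at hall
      have hin : I * I' ≤ (RingHom.ker p : Ideal A) * Ideal.span {c} := by
        refine Ideal.mul_le.2 fun y hy t ht => ?_
        obtain ⟨ψ, hψ⟩ := exists_psi (k := k) hc hII ht
        rw [show y * t = ψ ⟨y, hy⟩ * c by rw [mul_comm _ c, hψ]; exact mul_comm y t]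
        exact Ideal.mul_mem_mul (hall t ht ψ hψ ⟨y, hy⟩) (Ideal.mem_span_singleton_self c)
      have hcm : c ∈ RingHom.ker p * Ideal.span {c} := hin (hII ▸ Ideal.mem_span_singleton_self c)
      obtain ⟨a, ha, hac⟩ := Ideal.mem_mul_span_singleton.1 hcm
      rw [mul_left_eq_self₀] at hac
      rw [hac.resolve_right hc] at ha
      exact one_ne_zero (α := k) ((map_one p).symm.trans ha)
    obtain ⟨t, ht, ψ, hψ, y, hy⟩ := hpsi g
    obtain ⟨t', ht', ψ', hψ', y', hy'⟩ := hpsi h
    let Ψ : (Ten k I I) →ₗ[k] A ⊗[k] A := TensorProduct.map ψ ψ'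
    have hΨ : ∀ v, (c ⊗ₜ[k] c) * Ψ v = (t ⊗ₜ[k] t') * emb I I v := fun v => by
      induction v using TensorProduct.induction_on with
      | zero => simp
      | tmul p q => simp [Ψ, emb_tmul, hψ, hψ']
      | add p q hp hq => simp only [map_add, mul_add, hp, hq]
    have hcc : c ⊗ₜ[k] c ≠ 0 := by
      rw [show c ⊗ₜ[k] c = (Algebra.TensorProduct.includeLeft : A →ₐ[k] A ⊗[k] A) c *
        (Algebra.TensorProduct.includeRight : A →ₐ[k] A ⊗[k] A) c by simp]
      exact mul_ne_zero
        (fun e => hc (Algebra.TensorProduct.includeLeft_injective (algebraMap k A).injective (e.trans (map_zero _).symm)))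
        (fun e => hc (Algebra.TensorProduct.includeRight_injective (algebraMap k A).injective (e.trans (map_zero _).symm)))
    have hΨact : ∀ a v, Ψ (act I I a v) = a * Ψ v := fun a v =>
      mul_left_cancel₀ hcc (by rw [hΨ, emb_act, mul_left_comm (c ⊗ₜ[k] c), hΨ]; ring)
    let gh : A ⊗[k] A →ₐ[k] k := Algebra.TensorProduct.lift g h fun _ _ => Commute.all _ _
    have hgh : ∀ a, gh (Coalgebra.comul (R := k) a) = Coalgebra.counit (R := k) a := fun a => by
      have e := congrArg (fun f : WithConv (A →ₐ[k] k) => f.ofConv a) (mul_inv_cancel (toConv g))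
      rw [AlgHom.convOne_apply, Algebra.algebraMap_self_apply] at e
      refine Eq.trans ?_ e
      show _ = (toConv g * (toConv g)⁻¹) a
      rw [AlgHom.convMul_apply]
    let η : (Sub k I) →ₗ[k] k := gh.toLinearMap ∘ₗ Ψ ∘ₗ dh
    have hηmul : ∀ (a : A) (x : (Sub k I)), η ⟨a * x, I.smul_mem a x.2⟩ = Coalgebra.counit (R := k) a * η x := fun a x => by
      show gh (Ψ (dh _)) = _
      rw [hd.mul, hΨact, map_mul, hgh]
      rfl
    let C := η ⟨c₀, hc₀⟩
    have hη : ∀ x : (Sub k I), η x = Coalgebra.counit (R := k) (x : A) * C := fun x => by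
      have h1 := hηmul (x : A) ⟨c₀, hc₀⟩
      have h2 := hηmul c₀ x
      rw [hc1, one_mul] at h2
      rw [← h2, ← h1]
      congr 1
      exact Subtype.ext (mul_comm c₀ (x : A))
    have hC : C ≠ 0 := fun h0 => by
      have hne : gh (Ψ (y ⊗ₜ[k] y')) ≠ 0 := by simpa [gh, Ψ] using mul_ne_zero hy hy'
      refine hne ?_
      obtain ⟨cc, hcc'⟩ := hd.gen (y ⊗ₜ[k] y')
      rw [hcc']
      simp only [Finsupp.sum, map_sum, hΨact, map_mul]
      refine Finset.sum_eq_zero fun x _ => ?_
      rw [show gh (Ψ (dh x)) = η x from rfl, hη, h0, mul_zero, mul_zero]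
    let G : Matrix (Fin d) (Fin d) k := Matrix.of fun i j => g (ψ (m i j))
    let H : Matrix (Fin d) (Fin d) k := Matrix.of fun i j => h (ψ' (m i j))
    have hGH : G * H = C • 1 := by
      ext i j
      have h1 : η (m i j) = ∑ l, g (ψ (m i l)) * h (ψ' (m l j)) := by
        show gh (Ψ (dh _)) = _
        rw [hcomul, map_sum, map_sum]
        exact Finset.sum_congr rfl fun l _ => by simp [gh, Ψ]
      rw [hη, hcounit] at h1
      rw [Matrix.mul_apply, ← show _ = ∑ l, G i l * H l j from h1, Matrix.smul_apply, Matrix.one_apply, smul_eq_mul]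
      exact mul_comm _ _
    let a := (Matrix.of fun i j => ψ (m i j)).det
    have hga : g a ≠ 0 := by
      have hG : G = g.mapMatrix (Matrix.of fun i j => ψ (m i j)) := rfl
      have hdG : G.det * H.det ≠ 0 := by
        rw [← Matrix.det_mul, hGH, Matrix.det_smul, Matrix.det_one, mul_one]
        exact pow_ne_zero _ hC
      have := left_ne_zero_of_mul hdG
      rw [hG, ← AlgHom.map_det] at this
      exact this
    refine hga (hg (hle ?_))
    refine Submodule.mem_colon.2 fun x hx => Ideal.mem_span_singleton'.2 ?_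
    have hcd : c ^ d ≠ 0 := pow_ne_zero _ hc
    obtain ⟨z, hz⟩ := Ideal.mem_span_singleton'.1 (show t ^ d * x ∈ Ideal.span {c ^ d} by
      rw [← Ideal.span_singleton_pow, ← hII, mul_pow, mul_comm (t ^ d)]
      exact Ideal.mul_mem_mul hx (Ideal.pow_mem_pow ht d))
    refine ⟨z, mul_left_cancel₀ hcd ?_⟩
    have hca : c ^ d * a = t ^ d * mat.det := by
      have e1 : c • (Matrix.of fun i j => ψ (m i j)) = t • mat := by
        ext i j
        simp [mat, hψ]
      have e2 := congrArg Matrix.det e1
      rw [Matrix.det_smul, Matrix.det_smul, Fintype.card_fin] at e2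
      exact e2
    rw [smul_eq_mul]
    linear_combination mat.det * hz - x * hca
  refine ⟨d, mat.det, hd0, fun h0 => ?_, le_antisymm (fun x hx => ?_) ((Ideal.span_singleton_le_iff_mem _).2 hdet)⟩
  · obtain ⟨x, hx, hx0⟩ := (Submodule.ne_bot_iff _).1 (hI.pow d).ne_bot
    have := Submodule.mem_colon.1 (htop.ge (Submodule.mem_top : (1 : A) ∈ ⊤)) x hx
    rw [one_smul, h0, Ideal.span_singleton_eq_bot.2 rfl] at this
    exact hx0 this
  · have := Submodule.mem_colon.1 (htop.ge (Submodule.mem_top : (1 : A) ∈ ⊤)) x hx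
    rwa [one_smul] at this

end Groth.Agent.AlgGrpQ.PicG
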