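import Groth.Agent.AlgGrpQ.PicG.Ideal
import Groth.Agent.CAlgOdd.NagataFT.Basic
import Mathlib.RingTheory.DiscreteValuationRing.Basic
import Mathlib.RingTheory.Ideal.Colon
import Mathlib.GroupTheory.FiniteAbelian.Basic

/-!
# The Picard group of a normal domain with a factorial basic open is finitely generated
-/

set_option autoImplicit false
set_option linter.style.haveILetI false

universe u

namespace Groth.Agent.AlgGrpQ.PicG

variable {A : Type u} [CommRing A] [IsDomain A] [IsNoetherianRing A] [IsIntegrallyClosed A] {r : A}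

omit [IsIntegrallyClosed A] in
/-- Every class is represented by an ideal supported on the complement of the basic open. -/
theorem exists_supported (hr : r ≠ 0) (T : Type u) [CommRing T] [IsDomain T] [Algebra A T] [IsLocalization.Away r T]
    [Subsingleton (CommRing.Pic T)] (x : CommRing.Pic A) :
    ∃ (J : Ideal A) (hJ : InvId J), (∃ M : ℕ, r ^ M ∈ J) ∧ cls J hJ = x := by
  obtain ⟨I, hI, -, -, hcls⟩ := exists_ideal x.AsModule (⊥ : Ideal A) bot_ne_top
  rw [CommRing.Pic.mk_eq_self] at hcls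
  have hinjT : Function.Injective (algebraMap A T) :=
    IsLocalization.injective T (powers_le_nonZeroDivisors_of_noZeroDivisors hr)
  have hIT : InvId (I.map (algebraMap A T)) := hI.map _ hinjT
  obtain ⟨_, hT⟩ := cls_eq_mk hIT
  obtain ⟨eT⟩ := CommRing.Pic.mk_eq_one_iff.1 (hT.symm.trans (Subsingleton.elim _ 1))
  have hgen : I.map (algebraMap A T) = Ideal.span {(eT.symm 1 : T)} := by
    refine le_antisymm (fun z hz => Ideal.mem_span_singleton'.2 ⟨eT ⟨z, hz⟩, ?_⟩)
      ((Ideal.span_singleton_le_iff_mem _).2 (eT.symm 1).2)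
    have : eT.symm (eT ⟨z, hz⟩ • (1 : T)) = ⟨z, hz⟩ := by rw [smul_eq_mul, mul_one, eT.symm_apply_apply]
    rw [map_smul] at this
    exact congrArg Subtype.val this
  obtain ⟨n₀, a, ha⟩ := IsLocalization.Away.surj r ((eT.symm 1 : T))
  have hu : IsUnit (algebraMap A T r) := IsLocalization.Away.algebraMap_isUnit r
  have hgen' : I.map (algebraMap A T) = Ideal.span {algebraMap A T a} := by
    rw [hgen, ← ha]
    exact (Ideal.span_singleton_mul_right_unit (hu.pow n₀) _).symm
  have hmem : ∀ z : A, algebraMap A T z ∈ I.map (algebraMap A T) → ∃ m, r ^ m * z ∈ I := by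
    intro z hz
    obtain ⟨⟨⟨y, hy⟩, ⟨_, m, rfl⟩⟩, hys⟩ := (IsLocalization.mem_map_algebraMap_iff (Submonoid.powers r) T).1 hz
    refine ⟨m, ?_⟩
    have := hinjT (by rw [map_mul]; exact hys : algebraMap A T (z * r ^ m) = algebraMap A T y)
    rw [mul_comm, this]
    exact hy
  have hdiv : ∀ z ∈ I, ∃ n, r ^ n * z ∈ Ideal.span {a} := by
    intro z hz
    have h1 : algebraMap A T z ∈ (Ideal.span {a}).map (algebraMap A T) := by
      rw [Ideal.map_span, Set.image_singleton, ← hgen']
      exact Ideal.mem_map_of_mem _ hz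
    obtain ⟨⟨⟨y, hy⟩, ⟨_, m, rfl⟩⟩, hys⟩ := (IsLocalization.mem_map_algebraMap_iff (Submonoid.powers r) T).1 h1
    refine ⟨m, ?_⟩
    have := hinjT (by rw [map_mul]; exact hys : algebraMap A T (z * r ^ m) = algebraMap A T y)
    rw [mul_comm, this]
    exact hy
  have ha0 : a ≠ 0 := fun h0 => by
    refine hIT.ne_bot ?_
    rw [hgen', h0, map_zero, Ideal.span_singleton_eq_bot.2 rfl]
  obtain ⟨N, hN⟩ : ∃ N, Ideal.span {r ^ N} * I ≤ Ideal.span {a} := by
    obtain ⟨s, hs⟩ := (IsNoetherian.noetherian I)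
    choose! f hf using hdiv
    refine ⟨s.sup f, ?_⟩
    rw [← hs, Ideal.span_mul_span', Ideal.span_le]
    rintro _ ⟨_, hb, z, hz, rfl⟩
    rw [Set.mem_singleton_iff] at hb
    subst hb
    obtain ⟨d, hd⟩ := Nat.exists_eq_add_of_le (Finset.le_sup (f := f) hz)
    show r ^ s.sup f * z ∈ Ideal.span {a}
    rw [hd, pow_add, mul_comm (r ^ f z), mul_assoc]
    exact Ideal.mul_mem_left _ _ (hf z (hs ▸ Ideal.subset_span hz))
  let J : Ideal A := (Ideal.span {r ^ N} * I).colon (Ideal.span {a} : Ideal A)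
  have hK : InvId (Ideal.span {r ^ N} * I) := (invId_span (pow_ne_zero _ hr)).mul hI
  have hmemJ : ∀ w, w ∈ J ↔ w * a ∈ Ideal.span {r ^ N} * I := fun w => by
    refine ⟨fun h => Submodule.mem_colon.1 h a (Ideal.mem_span_singleton_self a), fun h => Submodule.mem_colon.2 ?_⟩
    intro p hp
    obtain ⟨q, rfl⟩ := Ideal.mem_span_singleton'.1 hp
    rw [smul_eq_mul, mul_left_comm]
    exact Ideal.mul_mem_left _ q h
  have heq : Ideal.span {a} * J = Ideal.span {r ^ N} * I := by
    refine le_antisymm (Ideal.mul_le.2 fun p hp q hq => ?_) fun z hz => ?_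
    · obtain ⟨q', rfl⟩ := Ideal.mem_span_singleton'.1 hp
      rw [mul_assoc]
      exact Ideal.mul_mem_left _ _ (mul_comm a q ▸ (hmemJ q).1 hq)
    · obtain ⟨w, rfl⟩ := Ideal.mem_span_singleton'.1 (hN hz)
      rw [mul_comm w a]
      exact Ideal.mul_mem_mul (Ideal.mem_span_singleton_self a) ((hmemJ w).2 hz)
  have hJ : InvId J := by
    obtain ⟨K', c, hc, hKc⟩ := hK
    exact ⟨Ideal.span {a} * K', c, hc, by rw [← mul_assoc, mul_comm J, heq, hKc]⟩
  refine ⟨J, hJ, ?_, ?_⟩
  · obtain ⟨m, hm⟩ := hmem a (hgen'.ge (Ideal.mem_span_singleton_self _))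
    refine ⟨N + m, (hmemJ _).2 ?_⟩
    rw [pow_add, mul_assoc]
    exact Ideal.mul_mem_mul (Ideal.mem_span_singleton_self _) hm
  · have h := cls_congr heq ((invId_span ha0).mul hJ) hK
    rw [cls_mul (invId_span ha0) hJ, cls_span ha0, cls_mul (invId_span (pow_ne_zero N hr)) hI, cls_span (pow_ne_zero N hr),
      one_mul, one_mul] at h
    exact h.trans hcls

/-- A nonzero prime under which a localisation is a discrete valuation ring is minimal over each of its nonzero
elements. -/
theorem mem_minimalPrimes {Q : Ideal A} [Q.IsPrime] [IsDiscreteValuationRing (Localization.AtPrime Q)] {z : A}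
    (hz : z ≠ 0) (hzQ : z ∈ Q) : Q ∈ (Ideal.span {z}).minimalPrimes := by
  refine ⟨⟨inferInstance, (Ideal.span_singleton_le_iff_mem _).2 hzQ⟩, fun p hp hpQ => ?_⟩
  obtain ⟨hp, hzp⟩ := hp
  haveI := hp
  have hdisj : Disjoint (Q.primeCompl : Set A) (p : Set A) :=
    Set.disjoint_left.2 fun x hx hxp => hx (hpQ hxp)
  have hpp := IsLocalization.isPrime_of_isPrime_disjoint Q.primeCompl (Localization.AtPrime Q) p hp hdisj
  have hne : p.map (algebraMap A (Localization.AtPrime Q)) ≠ ⊥ := by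
    intro h0
    have := Ideal.mem_map_of_mem (algebraMap A (Localization.AtPrime Q)) ((Ideal.span_singleton_le_iff_mem _).1 hzp)
    rw [h0, Ideal.mem_bot] at this
    exact hz (IsLocalization.injective _ Q.primeCompl_le_nonZeroDivisors (this.trans (map_zero _).symm))
  have hmax := IsLocalRing.eq_maximalIdeal (Ideal.IsPrime.isMaximal hpp hne)
  intro x hx
  have : algebraMap A (Localization.AtPrime Q) x ∈ p.map (algebraMap A (Localization.AtPrime Q)) := by
    rw [hmax, IsLocalization.AtPrime.to_map_mem_maximal_iff _ Q]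
    exact hx
  rw [← IsLocalization.under_map_of_isPrime_disjoint Q.primeCompl (Localization.AtPrime Q) hp hdisj]
  exact this

/-- Supported invertible ideals are determined at the finitely many primes over the missing divisor. -/
theorem le_of_local (hr : r ≠ 0) {J₁ J₂ : Ideal A} (h₁ : ∃ M, r ^ M ∈ J₁) (h₂ : ∃ M, r ^ M ∈ J₂) (hJ₂ : InvId J₂)
    (hP : ∀ (P : Ideal A) (_ : P.IsPrime), P ∈ (Ideal.span {r}).minimalPrimes →
      J₁.map (algebraMap A (Localization.AtPrime P)) ≤ J₂.map (algebraMap A (Localization.AtPrime P))) :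
    J₁ ≤ J₂ := by
  obtain ⟨J', c, hc, hJc⟩ := hJ₂
  intro x hx
  have key : ∀ y ∈ J', x * y ∈ Ideal.span {c} := by
    intro y hy
    by_contra hne
    set z : A ⧸ Ideal.span {c} := Ideal.Quotient.mk _ (x * y)
    have hz0 : z ≠ 0 := fun h => hne (Ideal.Quotient.eq_zero_iff_mem.1 h)
    obtain ⟨Q, hQ, hle⟩ := exists_le_isAssociatedPrime_of_isNoetherianRing A z hz0
    haveI := hQ.isPrime
    haveI := CAlgOdd.NagataFT.isDVR_of_mem_ass hc Q hQ
    have hcQ : c ∈ Q := hle (Submodule.mem_colon_singleton.2 (by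
      rw [Submodule.mem_bot]
      show Ideal.Quotient.mk _ (c * (x * y)) = 0
      exact Ideal.Quotient.eq_zero_iff_mem.2 (Ideal.mul_mem_right _ _ (Ideal.mem_span_singleton_self c))))
    have hloc : algebraMap A (Localization.AtPrime Q) x ∈ J₂.map (algebraMap A (Localization.AtPrime Q)) := by
      by_cases hrQ : r ∈ Q
      · exact hP Q inferInstance (mem_minimalPrimes hr hrQ) (Ideal.mem_map_of_mem _ hx)
      · obtain ⟨M, hM⟩ := h₂
        have : J₂.map (algebraMap A (Localization.AtPrime Q)) = ⊤ :=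
          Ideal.eq_top_of_isUnit_mem _ (Ideal.mem_map_of_mem _ hM)
            (IsLocalization.map_units _ (⟨r ^ M, fun h => hrQ (Ideal.IsPrime.mem_of_pow_mem inferInstance M h)⟩ : Q.primeCompl))
        rw [this]
        trivial
    have hxy : algebraMap A (Localization.AtPrime Q) (x * y) ∈ (Ideal.span {c}).map (algebraMap A (Localization.AtPrime Q)) := by
      rw [← hJc, Ideal.map_mul, map_mul]
      exact Ideal.mul_mem_mul hloc (Ideal.mem_map_of_mem _ hy)
    obtain ⟨⟨⟨w, hw⟩, ⟨s, hs⟩⟩, hws⟩ := (IsLocalization.mem_map_algebraMap_iff Q.primeCompl _).1 hxy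
    refine hs (hle (Submodule.mem_colon_singleton.2 ?_))
    rw [Submodule.mem_bot]
    show Ideal.Quotient.mk _ (s * (x * y)) = 0
    refine Ideal.Quotient.eq_zero_iff_mem.2 ?_
    have : x * y * s = w := IsLocalization.injective (Localization.AtPrime Q) Q.primeCompl_le_nonZeroDivisors (by rw [map_mul]; exact hws)
    rw [mul_comm, this]
    exact hw
  have hxc : x * c ∈ Ideal.span {c} * J₂ := by
    have hle : Ideal.span {x} * J' ≤ Ideal.span {c} := Ideal.mul_le.2 fun p hp y hy => by
      obtain ⟨q, rfl⟩ := Ideal.mem_span_singleton'.1 hp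
      rw [mul_assoc]
      exact Ideal.mul_mem_left _ _ (key y hy)
    have hmem : x * c ∈ Ideal.span {x} * (J₂ * J') := by
      rw [hJc]
      exact Ideal.mul_mem_mul (Ideal.mem_span_singleton_self x) (Ideal.mem_span_singleton_self c)
    rw [mul_left_comm, mul_comm J₂] at hmem
    exact Ideal.mul_mono_left hle hmem
  obtain ⟨w, hw, hwc⟩ := Ideal.mem_span_singleton_mul.1 hxc
  rwa [← mul_left_cancel₀ hc (hwc.trans (mul_comm x c))]

/-- The Picard group is finitely generated. -/
theorem fg_pic (hr : r ≠ 0) (T : Type u) [CommRing T] [IsDomain T] [Algebra A T] [IsLocalization.Away r T]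
    [Subsingleton (CommRing.Pic T)] : Group.FG (CommRing.Pic A) := by
  classical
  let S := {P : Ideal A // P ∈ (Ideal.span {r}).minimalPrimes}
  haveI : Finite S := ((Ideal.span {r}).finite_minimalPrimes_of_isNoetherianRing A).to_subtype
  haveI hpr : ∀ P : S, P.1.IsPrime := fun P => P.2.1.1
  have hdvr : ∀ P : S, IsDiscreteValuationRing (Localization.AtPrime P.1) := fun P => by
    refine CAlgOdd.NagataFT.isDVR_atPrime P.1 ?_ fun h => ?_
    · haveI : (Ideal.span {r}).IsPrincipal := ⟨⟨r, rfl⟩⟩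
      exact Ideal.height_le_one_of_isPrincipal_of_mem_minimalPrimes (Ideal.span {r}) P.1 P.2
    · have := P.2.1.2 (Ideal.mem_span_singleton_self r)
      rw [h, Ideal.mem_bot] at this
      exact hr this
  choose ϖ hϖ using fun P : S => haveI := hdvr P; IsDiscreteValuationRing.exists_irreducible (Localization.AtPrime P.1)
  let Sup : Set (Ideal A) := {J | InvId J ∧ ∃ M, r ^ M ∈ J}
  have hv : ∀ (J : Sup) (P : S), ∃ n : ℕ, J.1.map (algebraMap A (Localization.AtPrime P.1)) = Ideal.span {ϖ P ^ n} := by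
    intro J P
    haveI := hdvr P
    exact IsDiscreteValuationRing.ideal_eq_span_pow_irreducible
      (J.2.1.map _ (IsLocalization.injective _ P.1.primeCompl_le_nonZeroDivisors)).ne_bot (hϖ P)
  choose v hv using hv
  have huniq : ∀ (P : S) (a b : ℕ), Ideal.span {ϖ P ^ a} = Ideal.span {ϖ P ^ b} → a = b := fun P a b h => by
    have h1 := (pow_dvd_pow_iff (hϖ P).ne_zero (hϖ P).not_isUnit).1 (Ideal.span_singleton_le_span_singleton.1 h.le)
    have h2 := (pow_dvd_pow_iff (hϖ P).ne_zero (hϖ P).not_isUnit).1 (Ideal.span_singleton_le_span_singleton.1 h.ge)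
    omega
  have hmulS : ∀ J J' : Sup, J.1 * J'.1 ∈ Sup := fun J J' => by
    obtain ⟨M, hM⟩ := J.2.2
    obtain ⟨M', hM'⟩ := J'.2.2
    exact ⟨J.2.1.mul J'.2.1, M + M', by rw [pow_add]; exact Ideal.mul_mem_mul hM hM'⟩
  have hvmul : ∀ (J J' : Sup) (P : S), v ⟨_, hmulS J J'⟩ P = v J P + v J' P := fun J J' P => by
    refine huniq P _ _ ?_
    rw [← hv, Ideal.map_mul, hv, hv, Ideal.span_singleton_mul_span_singleton, pow_add]
  let Φ : Sup → CommRing.Pic A × Multiplicative (S → ℤ) := fun J =>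
    (cls J.1 J.2.1, Multiplicative.ofAdd fun P => (v J P : ℤ))
  have hΦmul : ∀ J J' : Sup, Φ J * Φ J' = Φ ⟨_, hmulS J J'⟩ := fun J J' => by
    refine Prod.ext (cls_mul J.2.1 J'.2.1).symm ?_
    refine Multiplicative.toAdd.injective (funext fun P => ?_)
    simp [Φ, hvmul]
  let H := Subgroup.closure (Set.range Φ)
  have htop : (⊤ : Ideal A) ∈ Sup := ⟨invId_top, 0, trivial⟩
  have hone : Φ ⟨⊤, htop⟩ = 1 := by
    refine Prod.ext cls_top (Multiplicative.toAdd.injective (funext fun P => ?_))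
    show (v ⟨⊤, htop⟩ P : ℤ) = 0
    have : v ⟨⊤, htop⟩ P = 0 := huniq P _ _ (by rw [← hv, Ideal.map_top, pow_zero, Ideal.span_singleton_one])
    simp [this]
  have hform : ∀ h ∈ H, ∃ J J' : Sup, h = Φ J / Φ J' := by
    intro h hh
    induction hh using Subgroup.closure_induction with
    | mem x hx => obtain ⟨J, rfl⟩ := hx; exact ⟨J, ⟨⊤, htop⟩, by rw [hone, div_one]⟩
    | one => exact ⟨⟨⊤, htop⟩, ⟨⊤, htop⟩, by rw [div_self']⟩
    | mul x y _ _ hx hy =>
      obtain ⟨J₁, J₁', rfl⟩ := hx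
      obtain ⟨J₂, J₂', rfl⟩ := hy
      exact ⟨⟨_, hmulS J₁ J₂⟩, ⟨_, hmulS J₁' J₂'⟩, by rw [div_mul_div_comm, hΦmul, hΦmul]⟩
    | inv x _ hx => obtain ⟨J, J', rfl⟩ := hx; exact ⟨J', J, inv_div _ _⟩
  let π : H →* Multiplicative (S → ℤ) := (MonoidHom.snd _ _).comp H.subtype
  have hπ : Function.Injective π := by
    refine (injective_iff_map_eq_one π).2 fun h hh => ?_
    obtain ⟨J, J', he⟩ := hform h.1 h.2
    have hvv : ∀ P, v J P = v J' P := fun P => by
      have : (h.1).2 = 1 := hh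
      rw [he, Prod.snd_div, div_eq_one] at this
      exact_mod_cast congrFun (Multiplicative.ofAdd.injective this) P
    have hJJ : J.1 = J'.1 := le_antisymm
      (le_of_local hr J.2.2 J'.2.2 J'.2.1 fun P _ hP => by
        have := hv J ⟨P, hP⟩
        rw [hvv, ← hv J' ⟨P, hP⟩] at this
        exact this.le)
      (le_of_local hr J'.2.2 J.2.2 J.2.1 fun P _ hP => by
        have := hv J' ⟨P, hP⟩
        rw [← hvv, ← hv J ⟨P, hP⟩] at this
        exact this.le)
    refine Subtype.ext ?_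
    rw [he, show J = J' from Subtype.ext hJJ, div_self']
    rfl
  haveI : Group.FG H := by
    haveI : Module.Finite ℤ (Additive H) :=
      Module.Finite.of_injective (MonoidHom.toAdditiveLeft π).toIntLinearMap hπ
    exact GroupFG.iff_add_fg.2 (Module.Finite.iff_addGroup_fg.1 inferInstance)
  refine Group.fg_of_surjective (f := (MonoidHom.fst _ _).comp H.subtype) fun x => ?_
  obtain ⟨J, hJ, hM, hx⟩ := exists_supported hr T x
  exact ⟨⟨Φ ⟨J, hJ, hM⟩, Subgroup.subset_closure ⟨_, rfl⟩⟩, hx⟩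

end Groth.Agent.AlgGrpQ.PicG
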