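import Groth.Agent.AlgGrpQ.PicG.Trans
import Groth.Agent.AlgGrpQ.PicG.FG
import Groth.Agent.PicProd26.Generic
import Groth.Agent.ResSurf.Normal

/-!
# The Picard group of a connected linear group is finite
-/

set_option autoImplicit false
set_option linter.style.haveILetI false
set_option maxSynthPendingDepth 5
set_option backward.isDefEq.respectTransparency false

universe u

open CategoryTheory AlgebraicGeometry
open Groth.Agent.GrpSchLib.AffineHopf

namespace Groth.Agent.AlgGrpQ.PicG

variable {k : Type u} [Field k] [IsAlgClosed k]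

/-- The Picard group of a connected linear group is finite. -/
theorem finite_pic (G : Over (Spec (CommRingCat.of k))) [GrpObj G] [IsAffine G.left] [Smooth G.hom]
    [ConnectedSpace ↥G.left] : Finite (PicLoc.PicSet G.left) := by
  haveI : LocallyOfFiniteType G.hom := inferInstance
  obtain ⟨A, _, _, _, eG, _⟩ := AGFRoot.SolvSch.exists_coords G
  obtain ⟨-, hdom⟩ := AGFRoot.SolvSch.isDomain_coords eG
  haveI := hdom
  haveI : IsIso eG.hom.left := inferInstanceAs (IsIso ((Over.forget _).map eG.hom))
  haveI : Smooth (sp k A).hom := by rw [← Over.w eG.hom]; infer_instance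
  haveI : Algebra.Smooth k A :=
    RingHom.smooth_algebraMap.mp ((HasRingHomProperty.Spec_iff (P := @Smooth)).mp ‹Smooth (sp k A).hom›)
  haveI : IsNoetherianRing A := Algebra.FiniteType.isNoetherianRing k A
  haveI : IsIntegral (Spec (CommRingCat.of A)) := inferInstance
  haveI : IsIntegrallyClosed A := by
    haveI : IsIntegrallyClosed Γ(Spec (CommRingCat.of A), ⊤) := ResSurf.isIntegrallyClosed_top (X := Spec (CommRingCat.of A))
      (AVSquare.isNormalScheme_of_smooth_field (sp k A).hom)
    exact IsIntegrallyClosed.of_equiv (Scheme.ΓSpecIso (CommRingCat.of A)).commRingCatIsoToRingEquiv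
  obtain ⟨σ, hσ, T, _, _, _, j, i, hj, hi⟩ := Ratl.chart_of_smooth (k := k) A
  haveI : UniqueFactorizationMonoid T := by
    obtain ⟨h, hh⟩ := hi.exists_away
    letI := i.toRingHom.toAlgebra
    refine PicProd26.ufd_of_isLocalization (MvPolynomial σ k) (Submonoid.powers h)
      (powers_le_nonZeroDivisors_of_noZeroDivisors fun h0 => ?_) T
    have := IsLocalization.Away.algebraMap_isUnit h (S := T)
    rw [h0, map_zero] at this
    exact not_isUnit_zero this
  obtain ⟨r, hr⟩ := hj.exists_away
  letI := j.toRingHom.toAlgebra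
  have hr0 : r ≠ 0 := fun h0 => by
    have := IsLocalization.Away.algebraMap_isUnit r (S := T)
    rw [h0, map_zero] at this
    exact not_isUnit_zero this
  haveI : Group.FG (CommRing.Pic A) := fg_pic hr0 T
  letI := H23.PicMul.law (Spec (CommRingCat.of A))
  let φ := toPicHom (CommRingCat.of A)
  haveI : Group.FG φ.range := by
    haveI : AddGroup.FG (Additive (CommRing.Pic A)) := GroupFG.iff_add_fg.1 ‹Group.FG (CommRing.Pic A)›
    haveI : Module.Finite ℤ (Additive (CommRing.Pic A)) := Module.Finite.iff_addGroup_fg.2 inferInstance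
    haveI : Module.Finite ℤ (Additive φ.range) :=
      Module.Finite.of_injective (MonoidHom.toAdditive φ.range.subtype).toIntLinearMap φ.range.subtype_injective
    exact GroupFG.iff_add_fg.2 (Module.Finite.iff_addGroup_fg.1 inferInstance)
  have htor : IsMulTorsion φ.range := fun x => by
    obtain ⟨_, c, rfl⟩ := x
    exact (Submonoid.isOfFinOrder_coe (H := φ.range.toSubmonoid)).1 (isOfFinOrder_toPic (k := k) c)
  haveI : Finite φ.range := CommGroup.finite_of_fg_isMulTorsion _ htor
  haveI : Finite (PicLoc.PicSet (Spec (CommRingCat.of A))) :=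
    Finite.of_injective (β := φ.range) (fun c => ⟨φ c, c, rfl⟩) fun c d h => toPic_injective (congrArg Subtype.val h)
  refine Finite.of_injective (β := PicLoc.PicSet (Spec (CommRingCat.of A)))
    (fun c => ⟨PicF.pullCl eG.hom.left c.1, PicLoc.isInvertibleCl_pullCl _ c.2⟩) fun c d h => Subtype.ext ?_
  have h1 := congrArg (fun z : PicLoc.PicSet (Spec (CommRingCat.of A)) => PicF.pullCl eG.inv.left z.1) h
  have hid : eG.inv.left ≫ eG.hom.left = 𝟙 _ := by rw [← Over.comp_left, eG.inv_hom_id]; rfl
  simp only [← PicLoc.pullCl_comp] at h1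
  erw [hid] at h1
  simpa only [PicLoc.pullCl_id] using h1

end Groth.Agent.AlgGrpQ.PicG
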