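import Groth.Agent.ComodLib.Rosenlicht

/-!
# Units on a product of two affine varieties
-/

set_option autoImplicit false
set_option linter.style.haveILetI false

universe u

open TensorProduct
open Groth.Agent.ComodLib

namespace Groth.Agent.AlgGrpQ.PicG

variable {k : Type u} [Field k] [IsAlgClosed k] {B C : Type u} [CommRing B] [Algebra k B] [Algebra.FiniteType k B]
  [IsDomain B] [CommRing C] [Algebra k C] [Algebra.FiniteType k C] [IsDomain C]

omit [IsAlgClosed k] [Algebra.FiniteType k B] [IsDomain B] [Algebra.FiniteType k C] [IsDomain C] in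
theorem slice_eq_map (g : C →ₐ[k] k) (w : B ⊗[k] C) :
    slice g.toLinearMap w = Algebra.TensorProduct.rid k k B (Algebra.TensorProduct.map (AlgHom.id k B) g w) := by
  induction w using TensorProduct.induction_on with
  | zero => simp
  | tmul p q => simp
  | add p q hp hq => simp only [map_add, hp, hq]

theorem eq_zero_of_forall_pt' {w : B ⊗[k] C} (h : ∀ g : C →ₐ[k] k, slice g.toLinearMap w = 0) : w = 0 := by
  classical
  let b := Module.Free.chooseBasis k B
  apply (TensorProduct.equivFinsuppOfBasisLeft b).injective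
  ext i
  rw [TensorProduct.equivFinsuppOfBasisLeft_apply, map_zero, Finsupp.zero_apply]
  by_contra hne
  obtain ⟨g, hg⟩ := exists_point_ne_zero (k := k) (fun hn => hne hn.eq_zero)
  refine hg ?_
  have e : g (TensorProduct.lid k C ((b.coord i).rTensor C w)) = b.coord i (slice g.toLinearMap w) := by
    clear h hne hg
    induction w using TensorProduct.induction_on with
    | zero => simp
    | tmul p q => simp [mul_comm]
    | add p q hp hq => simp only [map_add, hp, hq]
  rw [e, h g, map_zero]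

/-- A unit on a product which is trivial on both axes is trivial. -/
theorem eq_one_of_axes (u : B ⊗[k] C) (hu : IsUnit u) (p₀ : B →ₐ[k] k) (q₀ : C →ₐ[k] k)
    (hq : slice q₀.toLinearMap u = 1) (hp : ∀ q : C →ₐ[k] k, p₀ (slice q.toLinearMap u) = 1) : u = 1 := by
  classical
  obtain ⟨U, rfl⟩ := hu
  let sl : (C →ₐ[k] k) → (B ⊗[k] C →* B) := fun g =>
    { toFun := fun w => slice g.toLinearMap w
      map_one' := by simp [slice_eq_map]
      map_mul' := fun x y => by simp [slice_eq_map] }
  obtain ⟨S₁, hS₁⟩ := TensorProduct.exists_finset (U : B ⊗[k] C)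
  obtain ⟨S₂, hS₂⟩ := TensorProduct.exists_finset ((U⁻¹ : (B ⊗[k] C)ˣ) : B ⊗[k] C)
  let W : Submodule k B := Submodule.span k ((S₁ ∪ S₂).image Prod.fst : Set B)
  haveI : Module.Finite k W := Module.Finite.span_of_finite k (Finset.finite_toSet _)
  have hW : ∀ (g : C →ₐ[k] k) (S : Finset (B × C)), S ⊆ S₁ ∪ S₂ →
      slice g.toLinearMap (∑ i ∈ S, i.1 ⊗ₜ[k] i.2) ∈ W := fun g S hS => by
    rw [map_sum]
    refine Submodule.sum_mem _ fun i hi => ?_
    rw [slice_tmul]
    exact W.smul_mem _ (Submodule.subset_span (Finset.mem_image_of_mem _ (hS hi)))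
  obtain ⟨F, hF⟩ := exists_finite_unit_classes W
  obtain ⟨f, -, hf⟩ := exists_single_line (U : B ⊗[k] C) (F.image fun f : Bˣ => (f : B)) fun g => by
    obtain ⟨f, hf, c, hc⟩ := hF (Units.map (sl g) U) (by
      show slice g.toLinearMap (U : B ⊗[k] C) ∈ W
      exact hS₁ ▸ hW g S₁ Finset.subset_union_left) (by
      rw [← map_inv]
      show slice g.toLinearMap ((U⁻¹ : (B ⊗[k] C)ˣ) : B ⊗[k] C) ∈ W
      exact hS₂ ▸ hW g S₂ Finset.subset_union_right)
    exact ⟨_, Finset.mem_image_of_mem _ hf, Submodule.mem_span_singleton.2 ⟨c, hc.symm⟩⟩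
  obtain ⟨c₀, hc₀⟩ := Submodule.mem_span_singleton.1 (hq ▸ hf q₀)
  refine sub_eq_zero.1 (eq_zero_of_forall_pt' fun g => ?_)
  obtain ⟨c, hc⟩ := Submodule.mem_span_singleton.1 (hf g)
  have hc0 : c₀ ≠ 0 := fun h => one_ne_zero (α := B) (by rw [← hc₀, h, zero_smul])
  have hs : slice g.toLinearMap (U : B ⊗[k] C) = algebraMap k B (c * c₀⁻¹) := by
    rw [Algebra.algebraMap_eq_smul_one, ← hc₀, smul_smul, mul_assoc, inv_mul_cancel₀ hc0, mul_one]
    exact hc.symm
  have h1 := hp g
  rw [hs, AlgHom.commutes, Algebra.algebraMap_self_apply] at h1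
  rw [map_sub, hs, h1, map_one]
  simp [slice_eq_map]

end Groth.Agent.AlgGrpQ.PicG
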