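import Groth.Agent.AlgGrpQ.PicG.Action
import Groth.Agent.AlgGrpQ.PicG.Units
import Groth.Agent.DynLib41.Basic
import Groth.Agent.GrpSchLib.TensorDomain

/-!
# Semilinear maps on invertible ideals and their normalisation
-/

set_option autoImplicit false
set_option linter.style.haveILetI false
set_option maxSynthPendingDepth 5

universe u

open TensorProduct WithConv
open scoped Groth.Agent.DynLib41

namespace Groth.Agent.AlgGrpQ.PicG

variable {k : Type u} [Field k]

/-- Two semilinear maps with the same span differ by a unit. -/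
theorem exists_unit_ratio {A R : Type u} [CommRing A] [CommRing R] [IsDomain R] {I : Ideal A} (hI0 : I ≠ ⊥)
    (φ : A →+* R) (hφ : Function.Injective φ) {J : Ideal R} (hJ : InvId J) (D D' : I → R)
    (hD : ∀ (a : A) (x : I), D (a • x) = φ a * D x) (hD' : ∀ (a : A) (x : I), D' (a • x) = φ a * D' x)
    (hs : Ideal.span (Set.range D) = J) (hs' : Ideal.span (Set.range D') = J) :
    ∃ u : Rˣ, ∀ x, D' x = u * D x := by
  obtain ⟨x₀, hx₀, hx0⟩ := (Submodule.ne_bot_iff _).1 hI0
  have hφ0 : φ x₀ ≠ 0 := fun h => hx0 (hφ (h.trans (map_zero φ).symm))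
  have hswap : ∀ x : I, (x : A) • (⟨x₀, hx₀⟩ : I) = x₀ • x := fun x => Subtype.ext (mul_comm (x : A) x₀)
  have hc : ∀ x : I, φ x₀ * D x = φ x * D ⟨x₀, hx₀⟩ := fun x => by rw [← hD, ← hD, hswap]
  have hc' : ∀ x : I, φ x₀ * D' x = φ x * D' ⟨x₀, hx₀⟩ := fun x => by rw [← hD', ← hD', hswap]
  set d := D ⟨x₀, hx₀⟩
  set d' := D' ⟨x₀, hx₀⟩
  have key : ∀ x, d * D' x = d' * D x := fun x => mul_left_cancel₀ hφ0 (by linear_combination d * hc' x - d' * hc x)
  have hd : d ≠ 0 := fun h => hJ.ne_bot (by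
    rw [← hs, Ideal.span_eq_bot]
    rintro _ ⟨x, rfl⟩
    refine mul_left_cancel₀ hφ0 ?_
    rw [hc, h, mul_zero, mul_zero])
  have hspan : Ideal.span {d} * J = Ideal.span {d'} * J := by
    conv_lhs => rw [← hs']
    conv_rhs => rw [← hs]
    rw [Ideal.span_mul_span', Ideal.span_mul_span', Set.singleton_mul, Set.singleton_mul, ← Set.range_comp,
      ← Set.range_comp]
    congr 2
    exact funext key
  obtain ⟨J', c, hc0, hJJ⟩ := hJ
  have h2 : Ideal.span {d * c} = Ideal.span {d' * c} := by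
    rw [← Ideal.span_singleton_mul_span_singleton, ← Ideal.span_singleton_mul_span_singleton, ← hJJ, ← mul_assoc,
      ← mul_assoc, hspan]
  obtain ⟨u, hu⟩ := Ideal.span_singleton_eq_span_singleton.1 h2
  have hdu : d' = d * u := mul_right_cancel₀ hc0 (by rw [← hu]; ring)
  exact ⟨u, fun x => mul_left_cancel₀ hd (by rw [key, hdu]; ring)⟩

variable {A : Type u} [CommRing A] [HopfAlgebra k A]

/-- The functional of an ideal given by an element of a partner ideal. -/
theorem exists_psi [IsDomain A] {I I' : Ideal A} {c : A} (hc : c ≠ 0) (h : I * I' = Ideal.span {c}) {t : A} (ht : t ∈ I') :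
    ∃ ψ : Submodule.restrictScalars k I →ₗ[k] A,
      (∀ x, c * ψ x = t * x) := by
  have hd : ∀ x : Submodule.restrictScalars k I, ∃ a, c * a = t * x := fun x => by
    have : (x : A) * t ∈ Ideal.span {c} := h ▸ Ideal.mul_mem_mul x.2 ht
    obtain ⟨a, ha⟩ := Ideal.mem_span_singleton'.1 this
    exact ⟨a, by rw [mul_comm, ha, mul_comm]⟩
  choose ψ hψ using hd
  exact ⟨{ toFun := ψ
           map_add' := fun x y => mul_left_cancel₀ hc (by rw [mul_add, hψ, hψ, hψ, Submodule.coe_add, mul_add])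
           map_smul' := fun r x => mul_left_cancel₀ hc (by
             rw [RingHom.id_apply, mul_smul_comm, hψ, hψ, Submodule.coe_smul, mul_smul_comm]) }, hψ⟩

variable [IsAlgClosed k] [Algebra.FiniteType k A] [IsDomain A]

/-- Slices at the counit. -/
noncomputable abbrev sL (k : Type u) [Field k] (A : Type u) [CommRing A] [HopfAlgebra k A] : A ⊗[k] A →ₐ[k] A :=
  Algebra.TensorProduct.lift (AlgHom.id k A) ((Algebra.ofId k A).comp (Bialgebra.counitAlgHom k A)) fun _ _ =>
    Commute.all _ _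

/-- Slices at the counit. -/
noncomputable abbrev sR (k : Type u) [Field k] (A : Type u) [CommRing A] [HopfAlgebra k A] : A ⊗[k] A →ₐ[k] A :=
  Algebra.TensorProduct.lift ((Algebra.ofId k A).comp (Bialgebra.counitAlgHom k A)) (AlgHom.id k A) fun _ _ =>
    Commute.all _ _

omit [IsAlgClosed k] [Algebra.FiniteType k A] [IsDomain A] in
theorem sL_comul (a : A) : sL k A (Coalgebra.comul (R := k) a) = a := by
  have h : toConv (AlgHom.id k A) * (1 : WithConv (A →ₐ[k] A)) = toConv (AlgHom.id k A) := mul_one _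
  have h1 := congrArg (fun f : WithConv (A →ₐ[k] A) => f.ofConv a) h
  rw [AlgHom.convMul_def] at h1
  refine Eq.trans ?_ h1
  show _ = Algebra.TensorProduct.lmul' k (Algebra.TensorProduct.map _ _ (Coalgebra.comul (R := k) a))
  induction Coalgebra.comul (R := k) a using TensorProduct.induction_on with
  | zero => simp
  | tmul p q => simp [AlgHom.convOne_apply]
  | add p q hp hq => simp only [map_add, hp, hq]

omit [IsAlgClosed k] [Algebra.FiniteType k A] [IsDomain A] in
theorem sR_comul (a : A) : sR k A (Coalgebra.comul (R := k) a) = a := by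
  have h : (1 : WithConv (A →ₐ[k] A)) * toConv (AlgHom.id k A) = toConv (AlgHom.id k A) := one_mul _
  have h1 := congrArg (fun f : WithConv (A →ₐ[k] A) => f.ofConv a) h
  rw [AlgHom.convMul_def] at h1
  refine Eq.trans ?_ h1
  show _ = Algebra.TensorProduct.lmul' k (Algebra.TensorProduct.map _ _ (Coalgebra.comul (R := k) a))
  induction Coalgebra.comul (R := k) a using TensorProduct.induction_on with
  | zero => simp
  | tmul p q => simp [AlgHom.convOne_apply]
  | add p q hp hq => simp only [map_add, hp, hq]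

omit [IsAlgClosed k] [Algebra.FiniteType k A] [IsDomain A] in
theorem comul_injective' : Function.Injective (Coalgebra.comul (R := k) : A → A ⊗[k] A) := fun a b h => by
  have := congrArg (sL k A) h
  rwa [sL_comul, sL_comul] at this

/-- Normalisation of the comultiplication of an invertible ideal. -/
theorem exists_normalised {I : Ideal A} (hI : InvId I) (hε : ∃ c ∈ I, Coalgebra.counit (R := k) c = (1 : k))
    (δ : I → A ⊗[k] A) (hδ : ∀ (a : A) (x : I), δ (a • x) = Coalgebra.comul (R := k) a * δ x)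
    (hspan : Ideal.span (Set.range δ) = box k I I) :
    ∃ δ' : I → A ⊗[k] A, (∀ (a : A) (x : I), δ' (a • x) = Coalgebra.comul (R := k) a * δ' x) ∧
      Ideal.span (Set.range δ') = box k I I ∧ (∀ x, sL k A (δ' x) = x) ∧ ∀ x, sR k A (δ' x) = x := by
  obtain ⟨c₀, hc₀, hc1⟩ := hε
  have htop : I.map (Bialgebra.counitAlgHom k A) = ⊤ := by
    rw [Ideal.eq_top_iff_one, ← hc1]
    exact Ideal.mem_map_of_mem (Bialgebra.counitAlgHom k A) hc₀
  have hbox : ∀ (s : A ⊗[k] A →ₐ[k] A) (f g : A →ₐ[k] A), s.comp Algebra.TensorProduct.includeLeft = f →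
      s.comp Algebra.TensorProduct.includeRight = g → (box k I I).map s = I.map f * I.map g := fun s f g hf hg => by
    rw [box, Ideal.map_mul, ← hf, ← hg, Ideal.map_mapₐ, Ideal.map_mapₐ]
  have hεtop : I.map ((Algebra.ofId k A).comp (Bialgebra.counitAlgHom k A)) = ⊤ := by
    rw [← Ideal.map_mapₐ, htop, Ideal.map_top]
  have hmapL : (box k I I).map (sL k A) = I := by
    rw [hbox _ (AlgHom.id k A) ((Algebra.ofId k A).comp (Bialgebra.counitAlgHom k A)) (by ext a; simp) (by ext a; simp [Algebra.ofId_apply]), hεtop, Ideal.mul_top]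
    exact Ideal.map_id I
  have hmapR : (box k I I).map (sR k A) = I := by
    rw [hbox _ ((Algebra.ofId k A).comp (Bialgebra.counitAlgHom k A)) (AlgHom.id k A) (by ext a; simp [Algebra.ofId_apply]) (by ext a; simp), hεtop, Ideal.top_mul]
    exact Ideal.map_id I
  have hspanI : Ideal.span (Set.range fun x : I => (x : A)) = I := by
    rw [Subtype.range_coe_subtype]
    exact Ideal.span_eq I
  have hu : ∀ (s : A ⊗[k] A →ₐ[k] A), (∀ a, s (Coalgebra.comul (R := k) a) = a) → (box k I I).map s = I →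
      ∃ u : Aˣ, ∀ x : I, s (δ x) = u * x := fun s hs hm => by
    refine exists_unit_ratio hI.ne_bot (RingHom.id A) Function.injective_id hI (fun x => (x : A)) (fun x => s (δ x))
      (fun a x => rfl) (fun a x => by rw [hδ, map_mul, hs]; rfl) hspanI ?_
    refine Eq.trans ?_ hm
    rw [← hspan, Ideal.map_span, ← Set.range_comp]
    rfl
  obtain ⟨u₁, hu₁⟩ := hu (sL k A) sL_comul hmapL
  obtain ⟨u₂, hu₂⟩ := hu (sR k A) sR_comul hmapR
  let ε := Bialgebra.counitAlgHom k A
  have ht : ε (u₁ : A) = ε (u₂ : A) := by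
    have h1 := congrArg ε (hu₁ ⟨c₀, hc₀⟩)
    have h2 := congrArg ε (hu₂ ⟨c₀, hc₀⟩)
    rw [map_mul, show ε c₀ = 1 from hc1, mul_one] at h1 h2
    rw [← h1, ← h2, ← AlgHom.comp_apply, ← AlgHom.comp_apply]
    congr 1
    ext a <;> simp [ε]
  let C := algebraMap k A (ε (u₁ : A))
  have hC : IsUnit C := (u₁.isUnit.map ε).map _
  let m : A ⊗[k] A := ((u₁⁻¹ : Aˣ) : A) ⊗ₜ[k] ((u₂⁻¹ : Aˣ) : A) * algebraMap k (A ⊗[k] A) (ε (u₁ : A))
  have hm : IsUnit m := by
    refine IsUnit.mul ?_ ((u₁.isUnit.map ε).map _)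
    have : ((u₁⁻¹ : Aˣ) : A) ⊗ₜ[k] ((u₂⁻¹ : Aˣ) : A) =
        (Algebra.TensorProduct.includeLeft : A →ₐ[k] A ⊗[k] A) (u₁⁻¹ : Aˣ) *
          (Algebra.TensorProduct.includeRight : A →ₐ[k] A ⊗[k] A) (u₂⁻¹ : Aˣ) := by simp
    rw [this]
    exact ((u₁⁻¹).isUnit.map _).mul ((u₂⁻¹).isUnit.map _)
  refine ⟨fun x => m * δ x, fun a x => by show m * δ (a • x) = _ * (m * δ x); rw [hδ]; ring, ?_, fun x => ?_, fun x => ?_⟩
  · rw [← hspan, show (fun x => m * δ x) = (m * ·) ∘ δ from rfl, Set.range_comp, ← Set.singleton_mul,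
      ← Ideal.span_mul_span', Ideal.span_singleton_eq_top.2 hm, Ideal.top_mul]
  · rw [map_mul, hu₁, map_mul, AlgHom.commutes, Algebra.TensorProduct.lift_tmul]
    show _ * algebraMap k A (ε ((u₂⁻¹ : Aˣ) : A)) * algebraMap k A (ε (u₁ : A)) * _ = _
    rw [mul_assoc _ (algebraMap k A _) (algebraMap k A _), ← map_mul (algebraMap k A), ht, ← map_mul ε, Units.inv_mul,
      map_one, map_one, mul_one, ← mul_assoc, AlgHom.id_apply, Units.inv_mul, one_mul]
  · rw [map_mul, hu₂, map_mul, AlgHom.commutes, Algebra.TensorProduct.lift_tmul]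
    show algebraMap k A (ε ((u₁⁻¹ : Aˣ) : A)) * _ * algebraMap k A (ε (u₁ : A)) * _ = _
    rw [mul_comm (algebraMap k A (ε ((u₁⁻¹ : Aˣ) : A))), mul_assoc _ (algebraMap k A _) (algebraMap k A _),
      ← map_mul (algebraMap k A), ← map_mul ε, Units.inv_mul, map_one, map_one, mul_one, ← mul_assoc,
      AlgHom.id_apply, Units.inv_mul, one_mul]

end Groth.Agent.AlgGrpQ.PicG
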