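import Groth.Agent.AlgGrpQ.PicG.Det
import Groth.Agent.AlgGrpQ.PicG.Bridge
import Groth.Agent.AlgGrpQ.Ratl.Rational
import Groth.Agent.PicProd26.Action
import Groth.Agent.AVSquare.Completion
import Groth.Agent.GrpSchLib.UnitsScheme

/-!
# The Picard group of a connected linear group is torsion
-/

set_option autoImplicit false
set_option linter.style.haveILetI false
set_option maxSynthPendingDepth 5
set_option backward.isDefEq.respectTransparency false

universe u

open CategoryTheory CategoryTheory.Limits MonoidalCategory CartesianMonoidalCategory MonObj GrpObj AlgebraicGeometry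
open WithConv TensorProduct

namespace Groth.Agent.AlgGrpQ.PicG

open GrpSchLib.AffineHopf

variable {k : Type u} [Field k]

theorem map_ideal_cls {A B : Type u} [CommRing A] [CommRing B] [IsDomain A] [IsDomain B] (f : A →+* B)
    (hf : Function.Injective f) {I : Ideal A} (hI : InvId I) :
    CommRing.Pic.mapRingHom f (cls I hI) = cls (I.map f) (hI.map f hf) := by
  obtain ⟨_, e1⟩ := cls_eq_mk hI
  obtain ⟨_, e2⟩ := cls_eq_mk (hI.map f hf)
  rw [e1, e2]
  letI := f.toAlgebra
  let g : B ⊗[A] I →ₗ[B] (I.map f : Ideal B) := LinearMap.liftBaseChange B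
    { toFun := fun x : I => (⟨f x, Ideal.mem_map_of_mem f x.2⟩ : (I.map f : Ideal B))
      map_add' := fun x y => Subtype.ext (map_add f _ _)
      map_smul' := fun a x => Subtype.ext (map_mul f a (x : A)) }
  have hg : Function.Surjective g := fun y => by
    obtain ⟨y, hy⟩ := y
    induction hy using Submodule.span_induction with
    | mem y hy =>
      obtain ⟨x, hx, rfl⟩ := hy
      exact ⟨(1 : B) ⊗ₜ[A] ⟨x, hx⟩, by simp [g]⟩
    | zero => exact ⟨0, map_zero g⟩
    | add p q _ _ hp hq =>
      obtain ⟨a, ha⟩ := hp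
      obtain ⟨b, hb⟩ := hq
      exact ⟨a + b, by rw [map_add, ha, hb]; rfl⟩
    | smul r p _ hp =>
      obtain ⟨a, ha⟩ := hp
      exact ⟨r • a, by rw [map_smul, ha]; rfl⟩
  exact CommRing.Pic.mk_eq_mk_iff.2 ⟨TensorProduct.AlgebraTensorModule.congr (.refl B B)
    (CommRing.Pic.mk.linearEquiv A I) ≪≫ₗ LinearEquiv.ofBijective g (Module.Invertible.bijective_of_surjective hg)⟩

variable [IsAlgClosed k] {A : Type u} [CommRing A] [HopfAlgebra k A] [Algebra.FiniteType k A] [Algebra.Smooth k A]
  [IsDomain A]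

/-- A class with the translation identity is torsion. -/
theorem isOfFinOrder_of_ideal {x : CommRing.Pic A}
    (h : CommRing.Pic.mapRingHom (Bialgebra.comulAlgHom k A).toRingHom x =
      CommRing.Pic.mapRingHom (Algebra.TensorProduct.includeLeftRingHom : A →+* A ⊗[k] A) x *
        CommRing.Pic.mapRingHom (Algebra.TensorProduct.includeRight : A →ₐ[k] A ⊗[k] A).toRingHom x) :
    IsOfFinOrder x := by
  haveI : IsDomain (A ⊗[k] A) := GrpSchLib.isDomain_tensor_of_isAlgClosed
  let ε := Bialgebra.counitAlgHom k A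
  have hne : RingHom.ker ε ≠ ⊤ := RingHom.ker_ne_top _
  obtain ⟨I, hI, -, hle, hcls⟩ := exists_ideal x.AsModule (RingHom.ker ε) hne
  rw [CommRing.Pic.mk_eq_self] at hcls
  obtain ⟨c, hc, hc0⟩ := SetLike.not_le_iff_exists.1 hle
  have hε : ∃ c ∈ I, Coalgebra.counit (R := k) c = (1 : k) :=
    ⟨algebraMap k A (ε c)⁻¹ * c, I.mul_mem_left _ hc, by
      show ε _ = 1
      rw [map_mul, AlgHom.commutes]
      exact inv_mul_cancel₀ hc0⟩
  have hΔ : Function.Injective (Bialgebra.comulAlgHom k A).toRingHom := comul_injective'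
  have hl : Function.Injective (Algebra.TensorProduct.includeLeftRingHom : A →+* A ⊗[k] A) :=
    Algebra.TensorProduct.includeLeft_injective (S := k) (algebraMap k A).injective
  have hr : Function.Injective (Algebra.TensorProduct.includeRight : A →ₐ[k] A ⊗[k] A).toRingHom :=
    Algebra.TensorProduct.includeRight_injective (algebraMap k A).injective
  rw [← hcls, map_ideal_cls _ hΔ hI, map_ideal_cls _ hl hI, map_ideal_cls _ hr hI, ← cls_mul] at h
  obtain ⟨_, e1⟩ := cls_eq_mk (hI.map _ hΔ)
  obtain ⟨_, e2⟩ := cls_eq_mk ((hI.map _ hl).mul (hI.map _ hr))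
  rw [e1, e2] at h
  obtain ⟨e⟩ := CommRing.Pic.mk_eq_mk_iff.1 h
  let δ : I → A ⊗[k] A := fun y => (e ⟨_, Ideal.mem_map_of_mem (Bialgebra.comulAlgHom k A).toRingHom y.2⟩ : A ⊗[k] A)
  have hδ : ∀ (a : A) (y : I), δ (a • y) = Coalgebra.comul (R := k) a * δ y := fun a y => by
    have : (⟨_, Ideal.mem_map_of_mem (Bialgebra.comulAlgHom k A).toRingHom (a • y).2⟩ :
        (I.map (Bialgebra.comulAlgHom k A).toRingHom : Ideal (A ⊗[k] A))) =
        Coalgebra.comul (R := k) a • ⟨_, Ideal.mem_map_of_mem (Bialgebra.comulAlgHom k A).toRingHom y.2⟩ :=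
      Subtype.ext (map_mul (Bialgebra.comulAlgHom k A).toRingHom a (y : A))
    show ((e _ : _) : A ⊗[k] A) = _
    rw [this, map_smul]
    rfl
  have hspan : Ideal.span (Set.range δ) = box k I I := by
    refine le_antisymm (Ideal.span_le.2 (by rintro _ ⟨y, rfl⟩; exact (e _).2)) fun z hz => ?_
    obtain ⟨⟨w, hw⟩, hwz⟩ := e.surjective ⟨z, hz⟩
    rw [show z = ((e ⟨w, hw⟩ : _) : A ⊗[k] A) from (congrArg Subtype.val hwz).symm]
    clear hwz
    induction hw using Submodule.span_induction with
    | mem w hw =>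
      obtain ⟨y, hy, rfl⟩ := hw
      exact Ideal.subset_span ⟨⟨y, hy⟩, rfl⟩
    | zero =>
      rw [show (⟨0, Submodule.zero_mem _⟩ : (I.map (Bialgebra.comulAlgHom k A).toRingHom : Ideal _)) = 0 from rfl,
        map_zero]
      exact Ideal.zero_mem _
    | add p q hp hq ihp ihq =>
      have : (⟨p + q, Submodule.add_mem _ hp hq⟩ : (I.map (Bialgebra.comulAlgHom k A).toRingHom : Ideal _)) =
          ⟨p, hp⟩ + ⟨q, hq⟩ := rfl
      rw [this, map_add]
      exact Ideal.add_mem _ ihp ihq
    | smul r p hp ihp =>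
      have : (⟨r • p, Submodule.smul_mem _ r hp⟩ : (I.map (Bialgebra.comulAlgHom k A).toRingHom : Ideal _)) =
          r • ⟨p, hp⟩ := rfl
      rw [this, map_smul]
      exact Ideal.mul_mem_left _ r ihp
  obtain ⟨n, d, hn, hd0, hIn⟩ := exists_pow_principal hI hε δ hδ hspan
  refine isOfFinOrder_iff_pow_eq_one.2 ⟨n, hn, ?_⟩
  rw [← hcls, ← cls_pow, cls_congr hIn _ (invId_span hd0), cls_span hd0]

include k in
/-- Classes on a connected linear group are torsion. -/
theorem isOfFinOrder_toPic [PicGrp.Law (Spec (CommRingCat.of A))] (c : PicLoc.PicSet (Spec (CommRingCat.of A))) :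
    IsOfFinOrder (toPic c) := by
  haveI hsm : Smooth (sp k A).hom := (HasRingHomProperty.Spec_iff (P := @Smooth)).mpr
    (RingHom.smooth_algebraMap.mpr ‹Algebra.Smooth k A›)
  haveI : IsAffine (sp k A).left := isAffine_Spec _
  haveI : IrreducibleSpace (sp k A).left := inferInstanceAs (IrreducibleSpace (PrimeSpectrum A))
  haveI : ConnectedSpace (sp k A).left := inferInstance
  let X := sp k A
  haveI : IsIntegral X.left := GrpSchLib.Kunneth.isIntegral_grp X
  letI : PicGrp.Law X.left := ‹_›
  letI := H23.PicMul.law (X ⊗ X).left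
  letI := H23.PicMul.law (Spec (CommRingCat.of (A ⊗[k] A)))
  letI : PicGrp.Law (sp k (A ⊗[k] A)).left := H23.PicMul.law (Spec (CommRingCat.of (A ⊗[k] A)))
  letI := H23.PicMul.law (𝟙_ (Over (Spec (CommRingCat.of k)))).left
  obtain ⟨U, n, V, e, hU, he⟩ := Ratl.exists_rational X
  have hN := AVSquare.isNormalScheme_of_smooth_field X.hom
  have pm : ∀ {W Z : Scheme.{u}} (f : W ⟶ Z), PicGrp.PullMul f := fun f => H23.PicMul.pullMul f
  let act : AlgGrp.Action X X := ⟨μ[X], MonObj.one_mul X, MonObj.mul_assoc X⟩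
  obtain ⟨d, hd⟩ := PicProd26.exists_act_eq hN (PicProd26.hasChart_of_rational X U n V e hU he) hN act (pm _) (pm _) c
  have hdc : d = c := by
    let s := lift (𝟙 X) (toUnit X ≫ η[X])
    have h := congrArg (PicGrp.pullHom s.left (pm _)) hd
    rw [map_mul, ← PicGrp.pullHom_comp_apply _ _ (pm _) (pm _) (pm _), ← PicGrp.pullHom_comp_apply _ _ (pm _) (pm _) (pm _),
      ← PicGrp.pullHom_comp_apply _ _ (pm _) (pm _) (pm _),
      PicProd26.pullHom_congr (show s.left ≫ (fst X X).left = 𝟙 _ by rw [← Over.comp_left, lift_fst]; rfl) _ (PicGrp.pullMul_id _),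
      PicProd26.pullHom_congr (show s.left ≫ μ[X].left = 𝟙 _ by
        have : lift (𝟙 X) (toUnit X ≫ η[X]) ≫ μ[X] = 𝟙 X := by
          rw [← Category.comp_id (toUnit X ≫ η[X]), Category.assoc]
          exact MonObj.lift_comp_one_right _ _
        rw [← Over.comp_left, this]
        rfl) _ (PicGrp.pullMul_id _),
      PicProd26.pullHom_congr (show s.left ≫ (snd X X).left = (toUnit X).left ≫ η[X].left by
        rw [← Over.comp_left, ← Over.comp_left, lift_snd]) _ (pm _),
      PicGrp.pullHom_id_apply, PicGrp.pullHom_id_apply, PicGrp.pullHom_comp_apply _ _ (pm _) (pm _) _,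
      PicProd26.point_eq_one (PicGrp.pullHom η[X].left (pm _) c), map_one, _root_.mul_one] at h
    exact h.symm
  subst hdc
  let p : sp k (A ⊗[k] A) ⟶ X ⊗ X :=
    lift (spMap (Algebra.TensorProduct.includeLeft : A →ₐ[k] A ⊗[k] A))
      (spMap (Algebra.TensorProduct.includeRight : A →ₐ[k] A ⊗[k] A))
  have hp : p ≫ μ[X] = spMap (Bialgebra.comulAlgHom k A) := by
    rw [show p ≫ μ[X] = spMap (Algebra.TensorProduct.includeLeft : A →ₐ[k] A ⊗[k] A) *
      spMap (Algebra.TensorProduct.includeRight : A →ₐ[k] A ⊗[k] A) from rfl, spMap_mul]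
    congr 1
    refine AlgHom.ext fun a => ?_
    show (toConv (Algebra.TensorProduct.includeLeft : A →ₐ[k] A ⊗[k] A) *
      toConv (Algebra.TensorProduct.includeRight : A →ₐ[k] A ⊗[k] A)) a = _
    rw [AlgHom.convMul_apply]
    show _ = Coalgebra.comul (R := k) a
    induction Coalgebra.comul (R := k) a using TensorProduct.induction_on with
    | zero => simp
    | tmul x y => simp
    | add x y hx hy => simp only [map_add, hx, hy]
  have h := congrArg (fun z => toPic (R := CommRingCat.of (A ⊗[k] A)) (PicGrp.pullHom p.left (pm _) z)) hd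
  simp only [map_mul, ← PicGrp.pullHom_comp_apply _ _ (pm _) (pm _) (pm _)] at h
  have hp1 : p ≫ fst X X = spMap (Algebra.TensorProduct.includeLeft : A →ₐ[k] A ⊗[k] A) := lift_fst _ _
  have hp2 : p ≫ snd X X = spMap (Algebra.TensorProduct.includeRight : A →ₐ[k] A ⊗[k] A) := lift_snd _ _
  rw [PicProd26.pullHom_congr (show p.left ≫ act.act.left = _ from (Over.comp_left (f := p) (g := μ[X])).symm.trans (congrArg Over.Hom.left hp)) _ (pm _),
    PicProd26.pullHom_congr (show p.left ≫ (fst X X).left = _ from (Over.comp_left (f := p) (g := fst X X)).symm.trans (congrArg Over.Hom.left hp1)) _ (pm _),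
    PicProd26.pullHom_congr (show p.left ≫ (snd X X).left = _ from (Over.comp_left (f := p) (g := snd X X)).symm.trans (congrArg Over.Hom.left hp2)) _ (pm _),
    toPic_mul] at h
  refine isOfFinOrder_of_ideal (k := k) ?_
  refine Eq.trans ?_ (h.trans ?_)
  · exact (toPic_pull (CommRingCat.ofHom (Bialgebra.comulAlgHom k A).toRingHom) (pm _) d).symm
  · exact congrArg₂ (· * ·)
      (toPic_pull (CommRingCat.ofHom (Algebra.TensorProduct.includeLeft : A →ₐ[k] A ⊗[k] A).toRingHom) (pm _) d)
      (toPic_pull (CommRingCat.ofHom (Algebra.TensorProduct.includeRight : A →ₐ[k] A ⊗[k] A).toRingHom) (pm _) d)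

end Groth.Agent.AlgGrpQ.PicG
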